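import Cfsg.Agent.Lib.Invol.GTwoOdd.Model
import Cfsg.Agent.Lib.Lie.Chev.Torus
import Cfsg.Agent.Lib.Lie.Chev.SL2Root
import Cfsg.Agent.Lib.Lie.Chev.TorData
import Cfsg.Agent.Lib.Lie.Chev.PoinG2
import Cfsg.Agent.Lib.Lie.Chev.CommG2
import Cfsg.Agent.Lib.Lie.Chev.CoxTorus.Setting
import Cfsg.Agent.Lib.Lie.Chev.CoxTorus.WMat
import Cfsg.Agent.Lib.Classical.SL2Sylow
import Mathlib.GroupTheory.SpecificGroups.Quaternion
import Mathlib.Tactic.NoncommRing
import Mathlib.GroupTheory.NoncommCoprod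

/-!
# The Sylow two-subgroup of the Chevalley group of type `G₂` in odd characteristic

A long and a short orthogonal root give two commuting copies of `SL₂` with common central involution, and an
element of the diagonal subgroup acts on both as the diagonal matrix `δ, 1`.
-/

set_option autoImplicit false
set_option linter.unusedSectionVars false
set_option linter.style.haveILetI false

namespace CfsgLib.Invol.GTwoOdd

open Cfsg.Lie CfsgLib.Lie.Chev CfsgLib.Lie.CoxTorus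
open CfsgLib.Lie.SL2Rel (Fam)
open Matrix (SpecialLinearGroup)
open scoped MatrixGroups

variable {K : Type*} [Field K]

local notation "S2" => SpecialLinearGroup (Fin 2) K
local notation "M2" => Matrix (Fin 2) (Fin 2) K

/-- the diagonal matrix `δ, 1` -/
def dl (d : K) : M2 := !![d, 0; 0, 1]

theorem dl_inv_mul (d : Kˣ) : dl ((d⁻¹ : Kˣ) : K) * dl (d : K) = 1 := by
  ext i j
  fin_cases i <;> fin_cases j <;> simp [dl, Matrix.mul_apply, Fin.sum_univ_two]

theorem dl_mul_inv (d : Kˣ) : dl (d : K) * dl ((d⁻¹ : Kˣ) : K) = 1 := by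
  have := dl_inv_mul d⁻¹
  rwa [inv_inv] at this

/-- conjugation by it -/
noncomputable def cjD (d : Kˣ) : S2 →* S2 where
  toFun A := ⟨dl (d : K) * A.1 * dl ((d⁻¹ : Kˣ) : K), by
    rw [Matrix.det_mul_right_comm, dl_mul_inv, one_mul, A.2]⟩
  map_one' := Subtype.ext (show dl (d : K) * (1 : M2) * dl ((d⁻¹ : Kˣ) : K) = 1 by rw [mul_one, dl_mul_inv])
  map_mul' A B := Subtype.ext (by
    show dl (d : K) * (A.1 * B.1) * dl ((d⁻¹ : Kˣ) : K) =
      dl (d : K) * A.1 * dl ((d⁻¹ : Kˣ) : K) * (dl (d : K) * B.1 * dl ((d⁻¹ : Kˣ) : K))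
    simp only [mul_assoc]
    rw [← mul_assoc (dl ((d⁻¹ : Kˣ) : K)) (dl (d : K)), dl_inv_mul, one_mul])

theorem cjD_coe (d : Kˣ) (A : S2) :
    (cjD d A).1 = dl (d : K) * A.1 * dl ((d⁻¹ : Kˣ) : K) := rfl

/-- the matrix `δ, δ⁻¹` -/
noncomputable def dg (d : Kˣ) : S2 := ⟨!![(d : K), 0; 0, ((d⁻¹ : Kˣ) : K)], by simp [Matrix.det_fin_two_of]⟩

theorem dg_dl (d : Kˣ) : dl ((d⁻¹ : Kˣ) : K) * (dg d).1 = ((d⁻¹ : Kˣ) : K) • dl (d : K) := by
  ext i j
  fin_cases i <;> fin_cases j <;> simp [dl, dg, Matrix.mul_apply, Fin.sum_univ_two]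

/-- the element of the square root of `δ c` -/
theorem exists_gamma [Fintype K] (h2 : (2 : K) ≠ 0) {c n : S2} {j : ℕ} (hc : c ^ (2 ^ j) = 1)
    (hc2 : c.1 ≠ -1) (hnc : n * c = c⁻¹ * n) :
    ∃ (d : Kˣ) (g : S2), cjD d g * dg d * g = c ∧ cjD d (g * c⁻¹) * cjD d n = n * cjD d g ∧
      cjD d (g * c) = c * cjD d g := by
  set τ : K := c.1 0 0 + c.1 1 1 with hτ
  have hdet := c.2
  rw [Matrix.det_fin_two] at hdet
  have hsq : (c.1 + 1) * (c.1 + 1) = (τ + 2) • c.1 := by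
    ext i k
    fin_cases i <;> fin_cases k <;> simp [Matrix.mul_apply, Fin.sum_univ_two, hτ] <;>
      first
      | linear_combination hdet
      | linear_combination -hdet
      | linear_combination 2 * hdet
      | linear_combination -2 * hdet
      | ring
  have hd0 : τ + 2 ≠ 0 := by
    intro h
    rw [h, zero_smul] at hsq
    set N : M2 := -(c.1 + 1) with hN
    have hNN : N * N = 0 := by rw [hN, neg_mul_neg, hsq]
    have hp : ∀ i : ℕ, (1 + N) ^ i = 1 + (i : K) • N := by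
      intro i
      induction i with
      | zero => simp
      | succ i ih =>
        rw [pow_succ, ih, mul_add, mul_one, add_mul, one_mul, smul_mul_assoc, hNN, smul_zero, add_zero,
          Nat.cast_succ, add_smul, one_smul, add_assoc]
    have he : (1 + N) = -c.1 := by rw [hN]; abel
    refine hc2 ?_
    have h1 := hp (2 ^ (j + 1))
    have hcm : c.1 ^ (2 ^ j) = 1 := (Matrix.SpecialLinearGroup.coe_pow c _).symm.trans (by rw [hc]; rfl)
    rw [he, show (2 : ℕ) ^ (j + 1) = 2 * 2 ^ j by ring, pow_mul, neg_sq, ← pow_mul, mul_comm 2, pow_mul,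
      hcm, one_pow, eq_comm, add_eq_left, smul_eq_zero] at h1
    have hNz : N = 0 := h1.resolve_left (by push_cast; exact mul_ne_zero (pow_ne_zero _ h2) h2)
    rwa [hNz, add_zero, eq_comm, neg_eq_iff_eq_neg] at he
  set d : Kˣ := Units.mk0 _ hd0 with hd
  have hgd : Matrix.det (dl ((d⁻¹ : Kˣ) : K) * (c.1 + 1)) = 1 := by
    rw [Matrix.det_mul, Matrix.det_fin_two, Matrix.det_fin_two]
    simp only [dl, hd, Units.val_inv_eq_inv_val, Units.val_mk0]
    simp
    field_simp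
    rw [hτ]
    linear_combination hdet
  set e : M2 := dl ((d⁻¹ : Kˣ) : K) with he
  set g : S2 := ⟨_, hgd⟩ with hg
  have hΔ : ∀ A : M2, dl (d : K) * (e * A) = A := fun A => by rw [← mul_assoc, he, dl_mul_inv, one_mul]
  have hgc : g.1 = e * (c.1 + 1) := rfl
  have hcc : c⁻¹.1 * c.1 = 1 := by rw [← Matrix.SpecialLinearGroup.coe_mul, inv_mul_cancel, Matrix.SpecialLinearGroup.coe_one]
  have hcc' : c.1 * c⁻¹.1 = 1 := by rw [← Matrix.SpecialLinearGroup.coe_mul, mul_inv_cancel, Matrix.SpecialLinearGroup.coe_one]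
  have hn : n.1 * c.1 = c⁻¹.1 * n.1 := by rw [← Matrix.SpecialLinearGroup.coe_mul, hnc, Matrix.SpecialLinearGroup.coe_mul]
  refine ⟨d, g, ?_, ?_, ?_⟩
  all_goals apply Subtype.ext
  · simp only [Matrix.SpecialLinearGroup.coe_mul, cjD_coe, ← he, hgc, hΔ]
    rw [mul_assoc (c.1 + 1) e, he, dg_dl, mul_smul_comm, smul_mul_assoc, mul_assoc, ← he, hΔ, hsq, hd,
      smul_smul, Units.val_inv_eq_inv_val, Units.val_mk0, inv_mul_cancel₀ hd0, one_smul]
  · simp only [Matrix.SpecialLinearGroup.coe_mul, cjD_coe, ← he, hgc, mul_assoc, hΔ]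
    rw [← mul_assoc e (dl (d : K)), he, dl_inv_mul, one_mul, ← he]
    simp only [← mul_assoc]
    congr 1
    rw [mul_add, mul_one, hn, add_mul, one_mul, hcc']
    noncomm_ring
  · simp only [Matrix.SpecialLinearGroup.coe_mul, cjD_coe, ← he, hgc, mul_assoc, hΔ]
    simp only [← mul_assoc]
    congr 1
    noncomm_ring

/-! ### the group -/

/-- the verified structure of type G2, without the data of the other types -/
noncomputable def cT : Full chevG2 := ⟨goodG2, fastG2, rowsOK chkRows_G2, chkComm_G2⟩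

/-- the homomorphism of a root -/
noncomputable def rootHom (r : Fin chevG2.nroots) : S2 →* GL chevG2.Idx K :=
  (cT.G.sl2Fam (K := K) r).hom (cT.G.sl2Fam_mult r)

theorem rootHom_upper (r : Fin chevG2.nroots) (t : K) : rootHom r (Fam.upper t) = cT.G.xu r t :=
  Fam.hom_upper _ (cT.G.sl2Fam_mult r) t

theorem rootHom_lower (r : Fin chevG2.nroots) (t : K) :
    rootHom r (Fam.lower t) = cT.G.xu (cT.G.negr r) t :=
  Fam.hom_lower _ (cT.G.sl2Fam_mult r) t

theorem wel_eq : (Fam.wel : S2) = Fam.lower 1 * Fam.upper (-1) * Fam.lower 1 := by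
  refine Subtype.ext ?_
  simp only [Matrix.SpecialLinearGroup.coe_mul]
  ext i j
  fin_cases i <;> fin_cases j <;> simp [Fam.wel, Fam.upper, Fam.lower, Matrix.mul_apply, Fin.sum_univ_two]

theorem rootHom_mem (r : Fin chevG2.nroots) (x : S2) : rootHom r x ∈ chevG2.group K := by
  refine Fam.mem_gens (P := fun x => rootHom r x ∈ chevG2.group K)
    (fun a b ha hb => by rw [map_mul]; exact mul_mem ha hb) (fun t => ?_) ?_ x
  · rw [rootHom_upper]; exact cT.G.xu_mem _ _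
  · rw [wel_eq, map_mul, map_mul, rootHom_upper, rootHom_lower]
    exact mul_mem (mul_mem (cT.G.xu_mem _ _) (cT.G.xu_mem _ _)) (cT.G.xu_mem _ _)

theorem rootHom_diag (r : Fin chevG2.nroots) (g : S2) (a : Kˣ)
    (hc : g.1 1 0 = 0) (ha : g.1 0 0 = (a : K)) (hb : g.1 0 1 = 0) :
    rootHom r g = cT.G.hd r a := by
  show (cT.G.sl2Fam (K := K) r).val g = _
  rw [Fam.val_eq_zero _ hc ha hb, zero_div]
  show cT.G.hE r (a : K) * cT.G.xu r 0 = _
  rw [cT.G.xu_zero, mul_one, cT.G.hE_eq]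

/-- the long root -/
abbrev rl : Fin chevG2.nroots := ⟨6, by decide⟩
/-- the short root orthogonal to it -/
abbrev rs : Fin chevG2.nroots := ⟨9, by decide⟩

theorem negr_rl : cT.G.negr rl = ⟨5, by decide⟩ :=
  Fin.ext (by rw [← Good.neg_val]; decide +kernel)

theorem negr_rs : cT.G.negr rs = ⟨2, by decide⟩ :=
  Fin.ext (by rw [← Good.neg_val]; decide +kernel)

theorem terms_nil : ∀ a ∈ [6, 5], ∀ b ∈ [9, 2], chevG2.commTerms a b = [] := by decide +kernel

theorem negr_ne : ∀ a ∈ [6, 5], ∀ b ∈ [9, 2], b ≠ a ∧ b ≠ chevG2.neg a := by decide +kernel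

theorem xu_comm {a b : Fin chevG2.nroots} (ha : a.val ∈ [6, 5]) (hb : b.val ∈ [9, 2]) (t u : K) :
    Commute (cT.G.xu a t) (cT.G.xu b u) := by
  obtain ⟨n1, n2⟩ := negr_ne _ ha _ hb
  have h := cT.commAt a b (fun e => n1 (congrArg Fin.val e))
    (fun e => n2 (by rw [cT.G.neg_val, e])) t u
  simp only [CommAt, cwR, terms_nil _ ha _ hb, List.map_nil, wordR, List.prod_nil, mul_one] at h
  exact Units.ext h.symm

theorem hom_comm (A B : S2) : Commute (rootHom rl A) (rootHom rs B) := by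
  have hgen : ∀ (r : Fin chevG2.nroots) (P : GL chevG2.Idx K) (A : S2),
      (∀ t, Commute (cT.G.xu r t) P) → (∀ t, Commute (cT.G.xu (cT.G.negr r) t) P) →
      Commute (rootHom r A) P := by
    intro r P A h1 h2
    refine Fam.mem_gens (P := fun A => Commute (rootHom r A) P)
      (fun a b ha hb => by rw [map_mul]; exact ha.mul_left hb) (fun t => ?_) ?_ A
    · rw [rootHom_upper]; exact h1 t
    · rw [wel_eq, map_mul, map_mul, rootHom_upper, rootHom_lower]
      exact ((h2 _).mul_left (h1 _)).mul_left (h2 _)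
  refine hgen rl _ A (fun t => (hgen rs _ B (fun u => ?_) fun u => ?_).symm)
    (fun t => (hgen rs _ B (fun u => ?_) fun u => ?_).symm)
  all_goals refine (xu_comm ?_ ?_ t u).symm
  all_goals simp [negr_rl, negr_rs]

theorem rho_val : cT.G.rho rl ⟨0, by decide⟩ = 0 ∧ cT.G.rho rl ⟨1, by decide⟩ = 1 ∧
    cT.G.rho rs ⟨0, by decide⟩ = 2 ∧ cT.G.rho rs ⟨1, by decide⟩ = 1 := by decide +kernel

theorem pair_val : cT.G.pair rl ⟨0, by decide⟩ = -1 ∧ cT.G.pair rl ⟨1, by decide⟩ = 2 ∧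
    cT.G.pair rs ⟨0, by decide⟩ = 1 ∧ cT.G.pair rs ⟨1, by decide⟩ = 0 := by decide +kernel

theorem rank_cases : ∀ l : Fin chevG2.rank, l = ⟨0, by decide⟩ ∨ l = ⟨1, by decide⟩ := by decide

/-- the parameters of the element acting as `δ, 1` on both copies -/
def h0c (d : Kˣ) : Fin chevG2.rank → Kˣ := fun l => if l.val = 0 then 1 else d

theorem chi_h0c (d : Kˣ) {r : Fin chevG2.nroots} (h : cT.G.rho r ⟨1, by decide⟩ = 1) :
    cT.G.chi (h0c d) (cT.G.rho r) = d := by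
  rw [Good.chi, Finset.prod_eq_single (⟨1, by decide⟩ : Fin chevG2.rank)]
  · rw [h, zpow_one]; rfl
  · intro b _ hb
    rcases rank_cases b with rfl | rfl
    · exact one_zpow _
    · exact absurd rfl hb
  · exact fun h => absurd (Finset.mem_univ _) h

theorem tor_conj_hom {r : Fin chevG2.nroots} (c : Fin chevG2.rank → Kˣ) (d : Kˣ)
    (hr : cT.G.chi c (cT.G.rho r) = d) (A : S2) :
    cT.G.tor c * rootHom r A * (cT.G.tor c)⁻¹ = rootHom r (cjD d A) := by
  have hu : ∀ t : K, cjD d (Fam.upper t : S2) = Fam.upper ((d : K) * t) := fun t => by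
    apply Subtype.ext
    rw [cjD_coe]
    ext i j
    fin_cases i <;> fin_cases j <;> simp [dl, Fam.upper, Matrix.mul_apply, Fin.sum_univ_two, mul_comm]
  have hl : ∀ t : K, cjD d (Fam.lower t : S2) = Fam.lower (((d⁻¹ : Kˣ) : K) * t) := fun t => by
    apply Subtype.ext
    rw [cjD_coe]
    ext i j
    fin_cases i <;> fin_cases j <;> simp [dl, Fam.lower, Matrix.mul_apply, Fin.sum_univ_two, mul_comm]
  have hn : cT.G.chi c (cT.G.rho (cT.G.negr r)) = d⁻¹ := by
    rw [cT.G.rho_negr, ← neg_one_smul ℤ, cT.G.chi_zsmul, hr, zpow_neg_one]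
  refine Fam.mem_gens (P := fun A => cT.G.tor c * rootHom r A * (cT.G.tor c)⁻¹ = rootHom r (cjD d A))
    (fun a b ha hb => ?_) (fun t => ?_) ?_ A
  · rw [map_mul, map_mul, map_mul, ← ha, ← hb]; group
  · rw [hu, rootHom_upper, rootHom_upper, cT.G.tor_xu, mul_inv_cancel_right, hr]
  · have el : ∀ t : K, cT.G.tor c * rootHom r (Fam.lower t) * (cT.G.tor c)⁻¹ =
        rootHom r (cjD d (Fam.lower t)) := fun t => by
      rw [hl, rootHom_lower, rootHom_lower, cT.G.tor_xu, mul_inv_cancel_right, hn]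
    have eu : ∀ t : K, cT.G.tor c * rootHom r (Fam.upper t) * (cT.G.tor c)⁻¹ =
        rootHom r (cjD d (Fam.upper t)) := fun t => by
      rw [hu, rootHom_upper, rootHom_upper, cT.G.tor_xu, mul_inv_cancel_right, hr]
    rw [wel_eq, map_mul, map_mul, map_mul, map_mul, map_mul, map_mul, ← el, ← eu]
    group

theorem h0_sq (d : Kˣ) :
    cT.G.tor (h0c d) * cT.G.tor (h0c d) = rootHom rl (dg d) * rootHom rs (dg d) := by
  rw [rootHom_diag rl (dg d) d (by simp [dg]) (by simp [dg]) (by simp [dg]),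
    rootHom_diag rs (dg d) d (by simp [dg]) (by simp [dg]) (by simp [dg])]
  simp only [Good.hd, MonoidHom.comp_apply, MonoidHom.coe_mk, OneHom.coe_mk]
  rw [← map_mul, ← map_mul]
  congr 1
  funext l
  obtain ⟨a, b, c, e⟩ := pair_val
  rcases rank_cases l with rfl | rfl
  · simp only [Pi.mul_apply]
    rw [a, c, ← zpow_add]; simp [h0c]
  · simp only [Pi.mul_apply]
    rw [b, e, ← zpow_add]; simp [h0c, sq]

theorem z_eq (z : S2) (hz : z.1 = -1) :
    rootHom rl z = rootHom rs z ∧ ((-1 : K) ≠ 1 → rootHom rl z ≠ 1) := by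
  rw [rootHom_diag rl z (-1) (by simp [hz]) (by simp [hz]) (by simp [hz]),
    rootHom_diag rs z (-1) (by simp [hz]) (by simp [hz]) (by simp [hz])]
  obtain ⟨a, b, c, e⟩ := pair_val
  simp only [Good.hd, MonoidHom.comp_apply, MonoidHom.coe_mk, OneHom.coe_mk]
  refine ⟨congrArg _ (funext fun l => ?_), fun hne h => ?_⟩
  · rcases rank_cases l with rfl | rfl
    · show (-1 : Kˣ) ^ _ = (-1 : Kˣ) ^ _
      rw [a, c]; simp
    · show (-1 : Kˣ) ^ _ = (-1 : Kˣ) ^ _
      rw [b, e]; simp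
  · rw [← map_one cT.G.tor] at h
    have h0 : (-1 : Kˣ) ^ cT.G.pair rl ⟨0, by decide⟩ = 1 := congrFun (tor_inj cT h) ⟨0, by decide⟩
    rw [a] at h0
    exact hne (by simpa using congrArg Units.val h0)

/-- the two copies inside the group -/
noncomputable def hom' (r : Fin chevG2.nroots) : S2 →* ↥(chevG2.group K) :=
  (rootHom r).codRestrict _ (rootHom_mem r)

theorem coe_hom' (r : Fin chevG2.nroots) (A : S2) : (hom' r A : GL chevG2.Idx K) = rootHom r A := rfl

theorem factor_two_sq (q : ℕ) (hq : q % 2 = 1) (h1 : 1 < q) {N : ℕ}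
    (hN : (N : ℤ) = (q : ℤ) ^ 6 * (((q : ℤ) ^ 2 - 1) * ((q : ℤ) ^ 6 - 1))) :
    N.factorization 2 = 2 * (q * ((q - 1) * (q + 1))).factorization 2 := by
  set m := (q - 1) * (q + 1) with hm
  have hm' : (m : ℤ) = (q : ℤ) ^ 2 - 1 := by
    rw [hm]; push_cast [Nat.cast_sub h1.le]; ring
  have hN' : N = (q ^ 6 * (q ^ 4 + q ^ 2 + 1)) * (m * m) := by
    zify
    rw [hN, hm']; ring
  have hodd : ¬ 2 ∣ q := by omega
  have hodd' : ¬ 2 ∣ q ^ 6 * (q ^ 4 + q ^ 2 + 1) := by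
    simp [Nat.dvd_iff_mod_eq_zero, Nat.mul_mod, Nat.add_mod, Nat.pow_mod, hq]
  have hm0 : m ≠ 0 := Nat.mul_ne_zero (by omega) (by omega)
  rw [hN', Nat.factorization_mul (fun h => hodd' (by rw [h]; exact dvd_zero 2)) (Nat.mul_ne_zero hm0 hm0),
    Nat.factorization_mul hm0 hm0, Nat.factorization_mul (show q ≠ 0 by omega) hm0]
  simp only [Finsupp.coe_add, Pi.add_apply, Nat.factorization_eq_zero_of_not_dvd hodd,
    Nat.factorization_eq_zero_of_not_dvd hodd']
  ring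

theorem exists_sylow_iso [Fintype K] (hF : Odd (Fintype.card K)) (P : Sylow 2 ↥(chevG2.group K)) :
    ∃ k : ℕ, 1 ≤ k ∧
      Nonempty (Sd (2 * 2 ^ k) ≃* ↥(P : Subgroup ↥(chevG2.group K))) := by
  classical
  haveI : Fact (Nat.Prime 2) := ⟨Nat.prime_two⟩
  have h2 : (2 : K) ≠ 0 := Classical.two_ne_zero_of_odd_card hF
  have hne : (-1 : K) ≠ 1 := fun h => h2 (by linear_combination -h)
  obtain ⟨Q, -⟩ := (IsPGroup.of_bot (p := 2) (G := S2)).exists_le_sylow
  obtain ⟨k, hk, ⟨f⟩⟩ := Classical.sylow_two_quaternion hF Q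
  set m := 2 ^ k with hm
  haveI : NeZero m := ⟨pow_ne_zero _ two_ne_zero⟩
  let ι : QuaternionGroup m →* S2 := (Q : Subgroup S2).subtype.comp f.symm.toMonoidHom
  have ιinj : Function.Injective ι := Subtype.val_injective.comp f.symm.injective
  set c : S2 := ι (QuaternionGroup.a 1) with hc
  set n : S2 := ι (QuaternionGroup.xa 0) with hn
  have hcm : c ^ (2 * m) = 1 := by
    rw [hc, ← map_pow, QuaternionGroup.a_one_pow_n, map_one]
  have hcz : c ^ m = ι (QuaternionGroup.a (m : ZMod (2 * m))) := by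
    rw [hc, ← map_pow, QuaternionGroup.a_one_pow]
  have hz1 : c ^ m ≠ 1 := by
    rw [hcz, ← map_one ι]
    intro e
    have e' := ιinj e
    rw [QuaternionGroup.one_def, QuaternionGroup.a.injEq, ZMod.natCast_eq_zero_iff] at e'
    have := Nat.le_of_dvd (Nat.pos_of_ne_zero (NeZero.ne m)) e'
    have : 0 < m := Nat.pos_of_ne_zero (NeZero.ne m)
    omega
  have hzv : (c ^ m).1 = -1 := Classical.involution_eq_neg_one h2 hz1
    (by rw [← pow_add, ← two_mul, hcm])
  have hn2 : n * n = c ^ m := by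
    rw [hn, ← map_mul, QuaternionGroup.xa_mul_xa, hcz]
    simp
  have hnc : n * c = c⁻¹ * n := by
    rw [eq_inv_mul_iff_mul_eq, hn, hc, ← map_mul, ← map_mul]
    congr 1
    simp
  have hc2 : c.1 ≠ -1 := fun h => by
    have hcc : c * c = 1 := Subtype.ext (by
      show c.1 * c.1 = 1
      rw [h, neg_mul_neg, mul_one])
    refine hz1 ?_
    rw [hm, show (2 : ℕ) ^ k = 2 * 2 ^ (k - 1) by rw [← pow_succ', Nat.sub_add_cancel hk], pow_mul, sq,
      hcc, one_pow]
  obtain ⟨d, g, e1, e2, e3⟩ := exists_gamma h2 (j := k + 1) (by rw [pow_succ', ← hm, hcm]) hc2 hnc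
  -- the elements
  set Φl : S2 →* ↥(chevG2.group K) := hom' rl with hΦl
  set Φs : S2 →* ↥(chevG2.group K) := hom' rs with hΦs
  set h0 : ↥(chevG2.group K) := ⟨cT.G.tor (h0c d),
    cT.G.monomial_le_group (cT.G.H_le_monomial (tor_mem cT kerG2_ok rfl _))⟩ with hh0
  have hls : ∀ A B, Commute (Φl A) (Φs B) := fun A B => Subtype.ext (hom_comm A B)
  have hj : ∀ (r : Fin chevG2.nroots), cT.G.rho r ⟨1, by decide⟩ = 1 → ∀ A : S2,
      h0 * hom' r A = hom' r (cjD d A) * h0 := fun r hr A => Subtype.ext (by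
    show cT.G.tor (h0c d) * rootHom r A = rootHom r (cjD d A) * cT.G.tor (h0c d)
    rw [← tor_conj_hom _ d (chi_h0c d hr) A, inv_mul_cancel_right])
  have hjl : ∀ A, h0 * Φl A = Φl (cjD d A) * h0 := hj rl rho_val.2.1
  have hjs : ∀ A, h0 * Φs A = Φs (cjD d A) * h0 := hj rs rho_val.2.2.2
  have hsq : h0 * h0 = Φl (dg d) * Φs (dg d) := Subtype.ext (h0_sq d)
  set Φ : S2 × S2 →* ↥(chevG2.group K) := Φl.noncommCoprod Φs hls with hΦ
  have hΦv : ∀ A B, Φ (A, B) = Φl A * Φs B := fun A B => rfl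
  have hjΦ : ∀ A B, h0 * Φ (A, B) = Φ (cjD d A, cjD d B) * h0 := fun A B => by
    rw [hΦv, hΦv, ← mul_assoc, hjl, mul_assoc, hjs, mul_assoc]
  set X := Φ (c, 1) with hX
  set D := h0 * Φ (g, g) with hD
  set N := Φ (n, n) with hN
  set S0 := Φ (n, 1) with hS0
  have hDD : D * D = Φ (c, c) := by
    calc D * D = h0 * Φ (g, g) * (h0 * Φ (g, g)) := rfl
      _ = Φ (cjD d g, cjD d g) * (h0 * h0) * Φ (g, g) := by nth_rewrite 1 [hjΦ]; simp only [mul_assoc]
      _ = Φ (cjD d g, cjD d g) * Φ (dg d, dg d) * Φ (g, g) := by rw [hsq, ← hΦv]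
      _ = Φ (c, c) := by rw [← map_mul, ← map_mul, Prod.mk_mul_mk, Prod.mk_mul_mk, e1]
  have hSD : S0 * D = D * X⁻¹ * S0 := by
    rw [mul_assoc, hS0, hX, ← map_inv, ← map_mul, hD, mul_assoc h0, ← map_mul, hjΦ, hjΦ, ← mul_assoc,
      ← map_mul]
    congr 2
    simp only [Prod.inv_mk, Prod.mk_mul_mk, inv_one, one_mul, mul_one]
    rw [← mul_assoc g, map_mul (cjD d), e2]
  have hDX : Commute D X := by
    show D * X = X * D
    rw [hD, hX, mul_assoc, ← map_mul, hjΦ, hjΦ, ← mul_assoc, ← map_mul]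
    congr 2
    simp only [Prod.mk_mul_mk, one_mul, mul_one]
    rw [e3]
  have hND : N * D = D⁻¹ * N := by
    have h : N * D = D * Φ (c, c)⁻¹ * N := by
      rw [mul_assoc, hN, ← map_mul, hD, mul_assoc h0, ← map_mul, hjΦ, hjΦ, ← mul_assoc, ← map_mul]
      congr 2
      simp only [Prod.inv_mk, Prod.mk_mul_mk]
      rw [← mul_assoc g, map_mul (cjD d), e2]
    rw [h, map_inv, ← hDD]; group
  have hSX : S0 * X = X⁻¹ * S0 := by
    rw [hS0, hX, ← map_inv, ← map_mul, ← map_mul, Prod.inv_mk, Prod.mk_mul_mk, Prod.mk_mul_mk, hnc]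
    simp
  have hNX : N * X = X⁻¹ * N := by
    rw [hN, hX, ← map_inv, ← map_mul, ← map_mul, Prod.inv_mk, Prod.mk_mul_mk, Prod.mk_mul_mk, hnc]
    simp
  have hzz : Φl (c ^ m) = Φs (c ^ m) := Subtype.ext (z_eq _ hzv).1
  have hz2 : Φl (c ^ m) * Φl (c ^ m) = 1 := by rw [← map_mul, ← pow_add, ← two_mul, hcm, map_one]
  have hXm : X ^ m = Φl (c ^ m) := by rw [hX, ← map_pow, Prod.pow_mk, one_pow, hΦv, map_one, mul_one]
  have hN2 : N * N = 1 := by rw [hN, ← map_mul, Prod.mk_mul_mk, hn2, hΦv, ← hzz, hz2]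
  have hS2 : S0 * S0 = X ^ m := by rw [hS0, ← map_mul, Prod.mk_mul_mk, hn2, one_mul, hΦv, map_one, mul_one, hXm]
  have hD2 : D ^ (2 * m) = 1 := by
    rw [pow_mul, sq, hDD, ← map_pow, Prod.pow_mk, hΦv, ← hzz, hz2]
  have hDm : (D ^ m)⁻¹ = D ^ m := inv_eq_of_mul_eq_one_right (by rw [← pow_add, ← two_mul, hD2])
  have hNS : Commute N S0 := by
    show N * S0 = S0 * N
    rw [hN, hS0, ← map_mul, ← map_mul, Prod.mk_mul_mk, Prod.mk_mul_mk, one_mul, mul_one]
  have hXinv : (X ^ m)⁻¹ = X ^ m := inv_eq_of_mul_eq_one_right (by rw [hXm, hz2])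
  have hSDm : S0 * D ^ m * S0⁻¹ = D ^ m * X ^ m := by
    rw [← conj_pow, mul_inv_eq_iff_eq_mul.2 hSD, (hDX.inv_right).mul_pow, inv_pow, hXinv]
  have Qd : Quad (2 * m) D (D * X⁻¹) N (S0 * D ^ m) := by
    have hw1 : N * D * N⁻¹ = D⁻¹ := mul_inv_eq_iff_eq_mul.2 hND
    have hwX : N * X * N⁻¹ = X⁻¹ := mul_inv_eq_iff_eq_mul.2 hNX
    have hsD : S0 * D * S0⁻¹ = D * X⁻¹ := mul_inv_eq_iff_eq_mul.2 hSD
    have hsX : S0 * X * S0⁻¹ = X⁻¹ := mul_inv_eq_iff_eq_mul.2 hSX
    have hcD : ∀ y, Commute D y → S0 * D ^ m * y * (S0 * D ^ m)⁻¹ = S0 * y * S0⁻¹ := fun y hy => by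
      rw [mul_assoc S0, (hy.pow_left m).eq]; group
    refine ⟨(Commute.refl D).mul_right hDX.inv_right, hD2, hN2, ?_, ?_, hw1, ?_, ?_, ?_⟩
    · calc S0 * D ^ m * (S0 * D ^ m) = S0 * D ^ m * S0⁻¹ * (S0 * S0) * D ^ m := by group
        _ = D ^ m * X ^ m * X ^ m * D ^ m := by rw [hSDm, hS2]
        _ = 1 := by rw [mul_assoc (D ^ m), hXm, hz2, mul_one, ← pow_add, ← two_mul, hD2]
    · refine hNS.mul_right ?_
      show N * D ^ m = D ^ m * N
      rw [← mul_inv_eq_iff_eq_mul, ← conj_pow, hw1, inv_pow, hDm]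
    · calc N * (D * X⁻¹) * N⁻¹ = (N * D * N⁻¹) * (N * X * N⁻¹)⁻¹ := by group
        _ = D⁻¹ * X := by rw [hw1, hwX, inv_inv]
        _ = (D * X⁻¹)⁻¹ := by rw [hDX.inv_right.eq]; group
    · rw [hcD D (Commute.refl D), hsD]
    · rw [hcD _ ((Commute.refl D).mul_right hDX.inv_right)]
      calc S0 * (D * X⁻¹) * S0⁻¹ = (S0 * D * S0⁻¹) * (S0 * X * S0⁻¹)⁻¹ := by group
        _ = D := by rw [hsD, hsX, inv_inv, inv_mul_cancel_right]
  have hgz : Qd.hom (Sd.gz m) ≠ 1 := by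
    intro h
    refine (z_eq _ hzv).2 hne ?_
    have hv : ((m : ZMod (2 * m))).val = m := by
      rw [ZMod.val_natCast, Nat.mod_eq_of_lt]
      have := Nat.pos_of_ne_zero (NeZero.ne m)
      omega
    rw [Quad.hom_apply] at h
    simp only [part, tail, zp, Sd.gz, hv, ZMod.val_zero, pow_zero, mul_one] at h
    rw [(hDX.inv_right).mul_pow, ← mul_assoc, ← pow_add, ← two_mul, hD2, one_mul, inv_pow, hXinv, hXm] at h
    exact congrArg Subtype.val h
  have hinj : Function.Injective Qd.hom := by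
    have hm2 : 2 ≤ m := by rw [hm]; exact le_self_pow (by omega) (by omega)
    haveI : Group.IsNilpotent (Sd (2 * m)) := (IsPGroup.of_card (p := 2) (n := 2 + 2 * (k + 1)) (by
      rw [Sd.card_Sd, hm, pow_add, mul_comm 2 (k + 1), pow_mul, pow_succ (2 : ℕ) k, mul_comm (2 ^ k) 2]; norm_num
      )).isNilpotent
    rw [← MonoidHom.ker_eq_bot_iff]
    by_contra hk0
    have h1 : Qd.hom.ker ⊓ Subgroup.center (Sd (2 * m)) ≠ ⊥ :=
      Coprime.nilpotent_inf_center_ne_bot _ hk0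
    obtain ⟨⟨u, hu⟩, hu1⟩ := Subgroup.ne_bot_iff_exists_ne_one.1 h1
    obtain ⟨huk, huc⟩ := Subgroup.mem_inf.1 hu
    rcases Sd.eq_of_central hm2 huc with rfl | rfl
    · exact hu1 (Subtype.ext rfl)
    · exact hgz huk
  have hcard : Nat.card Qd.hom.range = 2 ^ (Nat.card ↥(chevG2.group K)).factorization 2 := by
    rw [← Nat.card_congr (MonoidHom.ofInjective hinj).toEquiv, Sd.card_Sd]
    have hQ := Q.card_eq_multiplicity
    rw [Nat.card_congr f.toEquiv, Nat.card_eq_fintype_card, QuaternionGroup.card, Classical.card_sl2, hm] at hQ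
    have hord := cT.order_formula (K := K) kerG2 kerG2_ok
    rw [show kerG2.k = 0 from rfl, pow_zero, one_mul] at hord
    replace hord : (Nat.card ↥(chevG2.group K) : ℤ) = (Fintype.card K : ℤ) ^ 6 *
        (((Fintype.card K : ℤ) ^ 2 - 1) * ((Fintype.card K : ℤ) ^ 6 - 1)) := by
      rw [← poinG2 cT.G]; exact hord
    rw [factor_two_sq _ (Nat.odd_iff.1 hF) Fintype.one_lt_card hord, pow_mul', ← hQ, hm]
    ring
  let R : Sylow 2 ↥(chevG2.group K) := Sylow.ofCard Qd.hom.range hcard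
  exact ⟨k, hk, ⟨(MonoidHom.ofInjective hinj).trans (Sylow.equiv R P)⟩⟩

end CfsgLib.Invol.GTwoOdd
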