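import Cfsg.Agent.Lib.Invol.GTwoOdd.Model
import Cfsg.Agent.Lib.Invol.Basic
import Cfsg.Agent.Lib.Invol.ZStar
import Cfsg.Agent.Lib.Fusion.Tate
import Cfsg.Agent.Lib.Coprime.Core
import Mathlib.GroupTheory.Sylow

/-!
# Simple groups with the Sylow two-subgroup of `G₂(q)`, `q ≡ ±1` modulo eight, have one class of involutions

Conjugating an involution to the centre together with its centraliser in the Sylow subgroup, and transfer
to the maximal subgroups, fuse everything.
-/

set_option autoImplicit false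
set_option linter.unusedSectionVars false
set_option linter.style.haveILetI false

namespace CfsgLib.Invol.GTwoOdd

open Subgroup CfsgLib.Invol

variable {m : ℕ}

namespace Sd

/-- reduction modulo two -/
def par : ZMod (2 * m) →+* ZMod 2 := ZMod.castHom (dvd_mul_right 2 m) (ZMod 2)

theorem exists_half [NeZero m] {d : ZMod (2 * m)} (h : par d = 0) : ∃ a, d = a + a := by
  have e : ((d.val : ℕ) : ZMod 2) = 0 := by
    rw [← map_natCast (par (m := m)), ZMod.natCast_zmod_val, h]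
  rw [ZMod.natCast_eq_zero_iff] at e
  obtain ⟨a, ha⟩ := e
  exact ⟨(a : ZMod (2 * m)), by rw [← ZMod.natCast_zmod_val d, ha, Nat.cast_mul, Nat.cast_ofNat, two_mul (a : ZMod (2 * m))]⟩

theorem par_m (hm : 2 ∣ m) : par ((m : ℕ) : ZMod (2 * m)) = 0 := by
  rw [map_natCast, ZMod.natCast_eq_zero_iff]; exact hm

theorem double_zero [NeZero m] {p : ZMod (2 * m)} (h : p + p = 0) : p = 0 ∨ p = (m : ℕ) := by
  have hlt := ZMod.val_lt p
  have hd : ((2 * p.val : ℕ) : ZMod (2 * m)) = 0 := by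
    rw [Nat.cast_mul, Nat.cast_ofNat, ZMod.natCast_zmod_val]; linear_combination h
  rw [ZMod.natCast_eq_zero_iff] at hd
  obtain ⟨t, ht⟩ := hd
  have hp : p.val = 0 ∨ p.val = m := by
    rcases Nat.lt_or_ge t 2 with h' | h'
    · interval_cases t <;> omega
    · have := Nat.mul_le_mul_left (2 * m) h'
      omega
  rcases hp with e | e
  · exact Or.inl (by rw [← ZMod.natCast_zmod_val p, e, Nat.cast_zero])
  · exact Or.inr (by rw [← ZMod.natCast_zmod_val p, e])

theorem m_add_m : ((m : ℕ) : ZMod (2 * m)) + (m : ℕ) = 0 := by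
  rw [← Nat.cast_add, ← two_mul, ZMod.natCast_self]

theorem m_ne_zero [NeZero m] : ((m : ℕ) : ZMod (2 * m)) ≠ 0 := by
  rw [ne_eq, ZMod.natCast_eq_zero_iff]
  intro h
  have := Nat.le_of_dvd (Nat.pos_of_ne_zero (NeZero.ne m)) h
  have := NeZero.ne m
  omega

theorem par_of_double [NeZero m] (hm : 4 ∣ m) {p : ZMod (2 * m)} (h : p + p = 0 ∨ p + p = (m : ℕ)) :
    par p = 0 := by
  obtain ⟨j, rfl⟩ := hm
  rcases h with h | h
  · rcases double_zero h with rfl | rfl
    · exact map_zero _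
    · exact par_m ⟨2 * j, by ring⟩
  · have h' : (p - ((2 * j : ℕ) : ZMod (2 * (4 * j)))) + (p - ((2 * j : ℕ) : ZMod (2 * (4 * j)))) = (0 : ZMod (2 * (4 * j))) := by
      linear_combination (norm := (push_cast; ring)) h
    have e : par (p - ((2 * j : ℕ) : ZMod (2 * (4 * j)))) = 0 := by
      rcases double_zero h' with e | e <;> rw [e]
      · exact map_zero _
      · exact par_m ⟨2 * j, by ring⟩
    rwa [map_sub, map_natCast, (ZMod.natCast_eq_zero_iff _ _).2 (dvd_mul_right 2 j), sub_zero] at e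

/-- the involutions in the diagonal part other than the central one -/
def gt (m : ℕ) : Sd (2 * m) := ⟨m, 0, 0, 0⟩
/-- the other one -/
def gt' (m : ℕ) : Sd (2 * m) := ⟨0, m, 0, 0⟩
/-- the inversion -/
def g00 (m : ℕ) : Sd (2 * m) := ⟨0, 0, 1, 0⟩
/-- the second class of the inversions -/
def g11 (m : ℕ) : Sd (2 * m) := ⟨1, 1, 1, 0⟩
/-- the third class of the inversions -/
def g10 (m : ℕ) : Sd (2 * m) := ⟨1, 0, 1, 0⟩
/-- the exchange -/
def gS (m : ℕ) : Sd (2 * m) := ⟨0, 0, 0, 1⟩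
/-- the other exchange -/
def gS' (m : ℕ) : Sd (2 * m) := ⟨0, 0, 1, 1⟩

/-- conjugacy in the model -/
def Cl (u v : Sd (2 * m)) : Prop := ∃ c, c * u * c⁻¹ = v

theorem coset_conj [NeZero m] {p q p' q' : ZMod (2 * m)} (hp : par p = par p') (hq : par q = par q') :
    Cl (⟨p, q, 1, 0⟩ : Sd (2 * m)) ⟨p', q', 1, 0⟩ := by
  obtain ⟨a, ha⟩ := exists_half (d := p' - p) (by rw [map_sub, hp, sub_self])
  obtain ⟨b, hb⟩ := exists_half (d := q' - q) (by rw [map_sub, hq, sub_self])
  refine ⟨⟨a, b, 0, 0⟩, ?_⟩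
  simp [mul_def, inv_def, Sd.mk.injEq]
  exact ⟨by linear_combination -ha, by linear_combination -hb⟩

theorem s_conj (p : ZMod (2 * m)) : Cl (⟨p, -p, 0, 1⟩ : Sd (2 * m)) (gS m) := by
  refine ⟨⟨-p, 0, 0, 0⟩, ?_⟩
  simp [mul_def, inv_def, gS, Sd.mk.injEq]

theorem s'_conj (p : ZMod (2 * m)) : Cl (⟨p, p, 1, 1⟩ : Sd (2 * m)) (gS' m) := by
  refine ⟨⟨-p, 0, 0, 0⟩, ?_⟩
  simp [mul_def, inv_def, gS', Sd.mk.injEq]

/-- the possible involutions -/
theorem inv_cases [NeZero m] {u : Sd (2 * m)} (h : u * u = 1) :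
    (u = 1 ∨ u = gz m ∨ u = gt m ∨ u = gt' m) ∨
      (∃ p q, u = ⟨p, q, 1, 0⟩) ∨ (∃ p, u = ⟨p, -p, 0, 1⟩) ∨ ∃ p, u = ⟨p, p, 1, 1⟩ := by
  obtain ⟨p, q, x, s⟩ := u
  rcases two_cases x with rfl | rfl <;> rcases two_cases s with rfl | rfl <;>
    simp [mul_def, one_def, one_add_one, Sd.mk.injEq] at h
  · refine Or.inl ?_
    rcases double_zero h.1 with rfl | rfl <;> rcases double_zero h.2 with rfl | rfl
    exacts [Or.inl rfl, Or.inr (Or.inr (Or.inr rfl)), Or.inr (Or.inr (Or.inl rfl)), Or.inr (Or.inl rfl)]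
  · exact Or.inr (Or.inr (Or.inl ⟨p, by rw [Sd.mk.injEq]; exact ⟨rfl, by linear_combination h.1, rfl, rfl⟩⟩))
  · exact Or.inr (Or.inl ⟨p, q, rfl⟩)
  · exact Or.inr (Or.inr (Or.inr ⟨p, by rw [Sd.mk.injEq]; exact ⟨rfl, by linear_combination -h.1, rfl, rfl⟩⟩))

theorem sq_diag (u : Sd (2 * m)) : (u * u).x = 0 ∧ (u * u).s = 0 :=
  ⟨by show u.x + u.x = 0; exact CharTwo.add_self_eq_zero _, by show u.s + u.s = 0; exact CharTwo.add_self_eq_zero _⟩

theorem gz_central (u : Sd (2 * m)) : u * gz m = gz m * u := by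
  have hn : -((m : ℕ) : ZMod (2 * m)) = (m : ℕ) := by linear_combination -(m_add_m (m := m))
  obtain ⟨p, q, x, s⟩ := u
  rcases two_cases x with rfl | rfl <;> rcases two_cases s with rfl | rfl <;>
    simp [mul_def, gz, Sd.mk.injEq, hn, add_comm]

/-- an element of the diagonal part commuting with `gt` -/
theorem s_eq_zero_of_comm [NeZero m] {u : Sd (2 * m)} {t : Sd (2 * m)} (ht : t = gt m ∨ t = gt' m)
    (h : u * t = t * u) : u.s = 0 := by
  have hn : -((m : ℕ) : ZMod (2 * m)) = (m : ℕ) := by linear_combination -(m_add_m (m := m))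
  obtain ⟨p, q, x, s⟩ := u
  rcases two_cases s with rfl | rfl
  · rfl
  exfalso
  rcases ht with rfl | rfl <;> rcases two_cases x with rfl | rfl <;>
    simp [mul_def, gt, gt', Sd.mk.injEq, hn, add_comm, m_ne_zero] at h

end Sd

open Sd

variable {G : Type*} [Group G] [Finite G] [IsSimpleGroup G] [NeZero m]

/-- a frame -/
structure Fr (G : Type*) [Group G] (m : ℕ) where
  /-- the Sylow subgroup -/
  T : Sylow 2 G
  /-- the coordinates -/
  e : Sd (2 * m) ≃* (T : Subgroup G)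

namespace Fr

variable (F : Fr G m)

/-- the coordinates as a homomorphism -/
def φ : Sd (2 * m) →* G := (F.T : Subgroup G).subtype.comp F.e.toMonoidHom

theorem φ_inj : Function.Injective F.φ := Subtype.val_injective.comp F.e.injective

theorem φ_mem (u : Sd (2 * m)) : F.φ u ∈ (F.T : Subgroup G) := (F.e u).2

theorem exists_of_mem {x : G} (hx : x ∈ (F.T : Subgroup G)) : ∃ u, F.φ u = x :=
  ⟨F.e.symm ⟨x, hx⟩, congrArg Subtype.val (F.e.apply_symm_apply ⟨x, hx⟩)⟩

/-- conjugacy in the group -/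
def R (u v : Sd (2 * m)) : Prop := IsConj (F.φ u) (F.φ v)

variable {F}

theorem R.of_cl {u v : Sd (2 * m)} (h : Cl u v) : F.R u v := by
  obtain ⟨c, hc⟩ := h
  exact isConj_iff.2 ⟨F.φ c, by rw [← hc, map_mul, map_mul, map_inv]⟩

theorem R.refl (u : Sd (2 * m)) : F.R u u := IsConj.refl _
theorem R.sy {u v : Sd (2 * m)} (h : F.R u v) : F.R v u := IsConj.symm h
theorem R.tr {u v w : Sd (2 * m)} (h : F.R u v) (h' : F.R v w) : F.R u w := IsConj.trans h h'

theorem invol_of {u v : Sd (2 * m)} (h : F.R u v) (hu : u * u = 1) : v * v = 1 := by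
  obtain ⟨g, hg⟩ := isConj_iff.1 h
  refine F.φ_inj ?_
  rw [map_mul, map_one, ← hg, show g * F.φ u * g⁻¹ * (g * F.φ u * g⁻¹) = g * (F.φ u * F.φ u) * g⁻¹ by group,
    ← map_mul, hu, map_one, mul_one, mul_inv_cancel]

theorem exists_pull (x : G) (P : Sylow 2 (centralizer ({x} : Set G))) (k : G)
    (hk : ∀ p : centralizer ({x} : Set G), p ∈ (P : Subgroup _) → k * (p : G) * k⁻¹ ∈ (F.T : Subgroup G))
    {v : Sd (2 * m)} (hv : F.φ v = k * x * k⁻¹) {y : Sd (2 * m)} (hy : IsConj (F.φ y) x) :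
    ∃ f : Sd (2 * m) → Sd (2 * m), f y = v ∧
      (∀ a b, a * y = y * a → b * y = y * b → f (a * b) = f a * f b) ∧
      (∀ a, a * y = y * a → f a * v = v * f a) ∧
      (∀ a b, a * y = y * a → b * y = y * b → f a = f b → a = b) ∧
      ∀ a, a * y = y * a → F.R a (f a) := by
  classical
  haveI : Fact (Nat.Prime 2) := ⟨Nat.prime_two⟩
  obtain ⟨g, hg⟩ := isConj_iff.1 hy
  let Cy : Subgroup (Sd (2 * m)) := centralizer ({y} : Set (Sd (2 * m)))
  let C : Subgroup G := centralizer ({x} : Set G)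
  have hmem : ∀ a ∈ Cy, g * F.φ a * g⁻¹ ∈ C := by
    intro a ha
    have e := congrArg F.φ (mem_centralizer_singleton_iff.1 ha)
    rw [map_mul, map_mul] at e
    refine mem_centralizer_singleton_iff.2 ?_
    rw [← hg]
    calc g * F.φ a * g⁻¹ * (g * F.φ y * g⁻¹) = g * (F.φ a * F.φ y) * g⁻¹ := by group
      _ = g * (F.φ y * F.φ a) * g⁻¹ := by rw [e]
      _ = _ := by group
  let ψ : Cy →* C := ((MulAut.conj g).toMonoidHom.comp (F.φ.comp Cy.subtype)).codRestrict C
    fun a => hmem a.1 a.2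
  have h2 : IsPGroup 2 ψ.range := by
    have hS : IsPGroup 2 (Sd (2 * m)) := F.T.2.of_equiv F.e.symm
    exact IsPGroup.of_surjective (hS.to_subgroup Cy) ψ.rangeRestrict ψ.rangeRestrict_surjective
  obtain ⟨c, hc⟩ := exists_conj_le_sylow h2 P
  set h := k * (c : G) * g with hh
  have hin : ∀ a, a * y = y * a → h * F.φ a * h⁻¹ ∈ (F.T : Subgroup G) := by
    intro a ha
    have := hk _ (hc (ψ ⟨a, mem_centralizer_singleton_iff.2 ha⟩) ⟨_, rfl⟩)
    have e : h * F.φ a * h⁻¹ = k * ((c : G) * (g * F.φ a * g⁻¹) * (c : G)⁻¹) * k⁻¹ := by rw [hh]; group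
    rw [e]; exact this
  let f : Sd (2 * m) → Sd (2 * m) := fun a =>
    if ha : a * y = y * a then F.e.symm ⟨_, hin a ha⟩ else a
  have hf : ∀ a, a * y = y * a → F.φ (f a) = h * F.φ a * h⁻¹ := fun a ha => by
    show F.φ (dite _ _ _) = _
    rw [dif_pos ha]
    exact congrArg Subtype.val (F.e.apply_symm_apply ⟨_, hin a ha⟩)
  have hfy : f y = v := F.φ_inj (by
    rw [hf y rfl, hv, hh]
    have e := mem_centralizer_singleton_iff.1 c.2
    calc k * (c : G) * g * F.φ y * (k * (c : G) * g)⁻¹ = k * ((c : G) * (g * F.φ y * g⁻¹) * (c : G)⁻¹) * k⁻¹ := by group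
      _ = k * x * k⁻¹ := by rw [hg, e, mul_inv_cancel_right])
  refine ⟨f, hfy, fun a b ha hb => ?_, fun a ha => ?_, fun a b ha hb e => ?_, fun a ha => ?_⟩
  · apply F.φ_inj
    have hab : a * b * y = y * (a * b) := by rw [mul_assoc, hb, ← mul_assoc, ha, mul_assoc]
    rw [hf _ hab, map_mul, map_mul, hf a ha, hf b hb]; group
  · apply F.φ_inj
    rw [map_mul, map_mul, hf a ha, ← hfy, hf y rfl, show h * F.φ a * h⁻¹ * (h * F.φ y * h⁻¹) = h * (F.φ a * F.φ y) * h⁻¹
      by group, show h * F.φ y * h⁻¹ * (h * F.φ a * h⁻¹) = h * (F.φ y * F.φ a) * h⁻¹ by group, ← map_mul, ← map_mul, ha]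
  · have e' := congrArg F.φ e
    rw [hf a ha, hf b hb] at e'
    exact F.φ_inj (mul_left_cancel (mul_right_cancel e'))
  · exact isConj_iff.2 ⟨h, (hf a ha).symm⟩

variable (F)

theorem pull_z {y : Sd (2 * m)} (hy : F.R y (gz m)) :
    ∃ f : Sd (2 * m) → Sd (2 * m), f y = gz m ∧
      (∀ a b, a * y = y * a → b * y = y * b → f (a * b) = f a * f b) ∧
      (∀ a, a * y = y * a → f a * gz m = gz m * f a) ∧
      (∀ a b, a * y = y * a → b * y = y * b → f a = f b → a = b) ∧
      ∀ a, a * y = y * a → F.R a (f a) := by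
  haveI : Fact (Nat.Prime 2) := ⟨Nat.prime_two⟩
  set C : Subgroup G := centralizer ({F.φ (gz m)} : Set G)
  have hle : (F.T : Subgroup G) ≤ C := fun t ht => by
    obtain ⟨u, rfl⟩ := F.exists_of_mem ht
    exact mem_centralizer_singleton_iff.2 (by rw [← map_mul, ← map_mul, gz_central])
  refine exists_pull _ (F.T.subtype hle) 1 (fun p hp => ?_) (v := gz m) (by group) hy
  rw [one_mul, inv_one, mul_one]
  exact hp

include F in
theorem center_bot : center G = ⊥ := by
  rcases Subgroup.Normal.eq_bot_or_eq_top (inferInstance : (center G).Normal) with h | h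
  · exact h
  · exfalso
    have h1 := mem_center_iff.1 (h ▸ mem_top (F.φ (gS m))) (F.φ ⟨1, 0, 0, 0⟩)
    rw [← map_mul, ← map_mul] at h1
    have h2 := F.φ_inj h1
    haveI : Fact (1 < 2 * m) := ⟨by have := NeZero.ne m; omega⟩
    simp [Sd.mul_def, gS, Sd.mk.injEq] at h2

theorem z_ord : orderOf (F.φ (gz m)) = 2 := by
  refine invol_iff.2 ⟨?_, fun h => ?_⟩
  · rw [← map_mul, ← map_one F.φ]
    congr 1
    simp [Sd.mul_def, gz, Sd.one_def, Sd.mk.injEq, m_add_m]
  · have := F.φ_inj (h.trans (map_one F.φ).symm)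
    simp [gz, Sd.one_def, Sd.mk.injEq, m_ne_zero] at this

include F in
theorem no_index_two (H : Subgroup G) : H.index ≠ 2 := by
  intro h
  rcases (Subgroup.normal_of_index_eq_two h).eq_bot_or_eq_top with e | e
  · rw [e, index_bot] at h
    have : Nat.card (Sd (2 * m)) ∣ Nat.card G := by
      rw [Nat.card_congr F.e.toEquiv]; exact card_subgroup_dvd_card _
    rw [h, Sd.card_Sd] at this
    have := Nat.le_of_dvd two_pos this
    have := Nat.one_le_pow 2 (2 * m) (by have := NeZero.ne m; omega)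
    omega
  · rw [e, index_top] at h; omega

/-- transfer -/
theorem fuse (χ : Sd (2 * m) →* Multiplicative (ZMod 2)) (hχ : ∃ a, χ a ≠ 1) {u : Sd (2 * m)}
    (hu : u * u = 1) : ∃ v, χ v = 1 ∧ F.R u v := by
  by_contra hcon
  push Not at hcon
  have hle : χ.ker.map F.φ ≤ (F.T : Subgroup G) := by rintro _ ⟨a, -, rfl⟩; exact F.φ_mem a
  have hrel : (χ.ker.map F.φ).relIndex (F.T : Subgroup G) = 2 := by
    have hT : (F.T : Subgroup G) = (⊤ : Subgroup (Sd (2 * m))).map F.φ := by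
      refine le_antisymm (fun t ht => ?_) (by rintro _ ⟨a, -, rfl⟩; exact F.φ_mem a)
      obtain ⟨a, rfl⟩ := F.exists_of_mem ht
      exact ⟨a, trivial, rfl⟩
    rw [hT, relIndex_map_map_of_injective _ _ F.φ_inj, relIndex_top_right, index_ker,
      MonoidHom.range_eq_top.2 (fun b => ?_), card_top]
    · simp
    · obtain ⟨a, ha⟩ := hχ
      rcases Sd.two_cases b.toAdd with e | e
      · exact ⟨1, (map_one χ).trans (toAdd_eq_zero.1 e).symm⟩
      · refine ⟨a, Multiplicative.toAdd.injective ?_⟩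
        rcases Sd.two_cases (χ a).toAdd with e' | e'
        · exact absurd (toAdd_eq_zero.1 e') ha
        · rw [e', e]
  obtain ⟨M, -, hM, -⟩ := CfsgLib.Fusion.thompson_transfer F.T hle hrel (u := F.φ u)
    (by rw [pow_two, ← map_mul, hu, map_one]) (fun g hg => by
      obtain ⟨v, hv, hve⟩ := hg
      exact hcon v (MonoidHom.mem_ker.1 hv) (isConj_iff.2 ⟨g, hve.symm⟩))
  exact F.no_index_two M hM

theorem gt_conj : F.R (gt m) (gt' m) := R.of_cl ⟨gS m, by simp [mul_def, inv_def, gS, gt, gt', one_add_one]⟩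

theorem ne_one {u v : Sd (2 * m)} (h : F.R u v) (hu : u ≠ 1) : v ≠ 1 := by
  rintro rfl
  refine hu (F.φ_inj ?_)
  rw [map_one]
  exact isConj_one_left.1 ((map_one F.φ) ▸ h)

theorem gz_sq : gz m * gz m = (1 : Sd (2 * m)) := by simp [mul_def, gz, one_def, Sd.mk.injEq, m_add_m]
theorem gz_ne : gz m ≠ (1 : Sd (2 * m)) := by simp [gz, one_def, Sd.mk.injEq, m_ne_zero]

variable {F}

theorem root_image {y u : Sd (2 * m)} {f : Sd (2 * m) → Sd (2 * m)} (hy : y ≠ gz m) (f1 : f y = gz m)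
    (f2 : ∀ a b, a * y = y * a → b * y = y * b → f (a * b) = f a * f b)
    (f4 : ∀ a b, a * y = y * a → b * y = y * b → f a = f b → a = b)
    (f5 : ∀ a, a * y = y * a → F.R a (f a)) (hu : u * y = y * u) (huu : u * u = gz m) :
    (f (gz m) = gt m ∨ f (gz m) = gt' m) ∧ f u * f u = f (gz m) := by
  have cz : gz m * y = y * gz m := (gz_central y).symm
  have hsq : f u * f u = f (gz m) := by rw [← f2 u u hu hu, huu]
  refine ⟨?_, hsq⟩
  obtain ⟨hx, hs⟩ := sq_diag (f u)
  rw [hsq] at hx hs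
  rcases inv_cases (invol_of (f5 _ cz) gz_sq) with (e | e | e | e) | ⟨a, b, e⟩ | ⟨a, e⟩ | ⟨a, e⟩
  · exact absurd e (ne_one F (f5 _ cz) gz_ne)
  · exact absurd (f4 _ _ cz rfl (e.trans f1.symm)).symm hy
  · exact Or.inl e
  · exact Or.inr e
  · rw [e] at hx; exact absurd hx one_ne_zero
  · rw [e] at hs; exact absurd hs one_ne_zero
  · rw [e] at hx; exact absurd hx one_ne_zero

theorem root_fused {y u : Sd (2 * m)} (hyR : F.R y (gz m)) (hy : y ≠ gz m) (hu : u * y = y * u)
    (huu : u * u = gz m) : F.R (gz m) (gt m) := by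
  obtain ⟨f, f1, f2, -, f4, f5⟩ := F.pull_z hyR
  have cz : gz m * y = y * gz m := (gz_central y).symm
  rcases (root_image hy f1 f2 f4 f5 hu huu).1 with e | e
  · exact e ▸ f5 _ cz
  · exact (e ▸ f5 _ cz).tr (F.gt_conj).sy

/-- both kinds of exchanges -/
def gE (x : ZMod 2) : Sd (2 * m) := ⟨0, 0, x, 1⟩

omit [NeZero m] in
theorem gE_eq : gE 0 = gS m ∧ gE 1 = gS' m := ⟨rfl, rfl⟩

theorem w_class {p q : ZMod (2 * m)} (h : par p = par q) :
    F.R (⟨p, q, 1, 0⟩ : Sd (2 * m)) (g00 m) ∨ F.R (⟨p, q, 1, 0⟩ : Sd (2 * m)) (g11 m) := by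
  rcases Sd.two_cases (par p) with e | e
  · exact Or.inl (R.of_cl (coset_conj (by rw [e, map_zero]) (by rw [← h, e, map_zero])))
  · exact Or.inr (R.of_cl (coset_conj (by rw [e, map_one]) (by rw [← h, e, map_one])))

theorem u_w (e : ZMod (2 * m)) :
    (⟨(m : ℕ), 0, 0, 1⟩ : Sd (2 * m)) * ⟨e, e, 1, 0⟩ = ⟨e, e, 1, 0⟩ * ⟨(m : ℕ), 0, 0, 1⟩ ∧
      (⟨(m : ℕ), 0, 0, 1⟩ : Sd (2 * m)) * ⟨(m : ℕ), 0, 0, 1⟩ = gz m := by
  have hn : -((m : ℕ) : ZMod (2 * m)) = (m : ℕ) := by linear_combination -(m_add_m (m := m))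
  simp [mul_def, gz, Sd.mk.injEq, hn, add_comm, one_add_one]

theorem u_E (hm : 4 ∣ m) (x : ZMod 2) : ∃ u : Sd (2 * m), u * gE x = gE x * u ∧ u * u = gz m := by
  obtain ⟨j, rfl⟩ := hm
  refine ⟨⟨((2 * j : ℕ) : ZMod (2 * (4 * j))), Sd.sg x * ((2 * j : ℕ) : ZMod (2 * (4 * j))), 0, 0⟩, ?_, ?_⟩
  · rcases Sd.two_cases x with rfl | rfl <;> simp [mul_def, gE, Sd.mk.injEq]
  · have h := m_add_m (m := 4 * j)
    push_cast at h
    rcases Sd.two_cases x with rfl | rfl <;> simp [mul_def, gz, Sd.mk.injEq] <;>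
      and_intros <;> first | linear_combination -h | linear_combination h | ring

variable (F)
variable (hm : 4 ∣ m)

include hm

theorem z_t : F.R (gz m) (gt m) := by
  haveI : Fact (Nat.Prime 2) := ⟨Nat.prime_two⟩
  by_contra ht
  have hn : -((m : ℕ) : ZMod (2 * m)) = (m : ℕ) := by linear_combination -(m_add_m (m := m))
  have hm2 : par ((m : ℕ) : ZMod (2 * m)) = 0 := par_m (dvd_trans (by norm_num) hm)
  have htt : ¬ F.R (gz m) (gt' m) := fun h => ht (h.tr (F.gt_conj).sy)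
  -- conjugates of the centre lie in the third class of inversions
  have cls : ∀ v : Sd (2 * m), F.R (gz m) v → v ≠ gz m → ∃ p q, v = ⟨p, q, 1, 0⟩ ∧ par p ≠ par q := by
    intro v hv hne
    rcases inv_cases (invol_of hv gz_sq) with (e | e | e | e) | ⟨a, b, e⟩ | ⟨a, e⟩ | ⟨a, e⟩
    · exact absurd e (ne_one F hv gz_ne)
    · exact absurd e hne
    · exact absurd (e ▸ hv) ht
    · exact absurd (e ▸ hv) htt
    · refine ⟨a, b, e, fun hab => ?_⟩
      rcases w_class (F := F) hab with h | h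
      · exact ht (root_fused (hv.tr (e ▸ h)).sy (by simp [g00, gz, Sd.mk.injEq]) (u_w 0).1 (u_w 0).2)
      · exact ht (root_fused (hv.tr (e ▸ h)).sy (by simp [g11, gz, Sd.mk.injEq]) (u_w 1).1 (u_w 1).2)
    all_goals
      exfalso
      obtain ⟨u, h1, h2⟩ := u_E hm v.x
      rw [e] at h1
      refine ht (root_fused (y := gE v.x) (hv.tr (R.of_cl ?_)).sy ?_ (e ▸ h1) h2)
    · rw [e]; exact s_conj a
    · simp [gE, gz, Sd.mk.injEq]
    · rw [e]; exact s'_conj a
    · simp [gE, gz, Sd.mk.injEq]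
  obtain ⟨y, hy, hyne⟩ : ∃ y, F.R (gz m) y ∧ y ≠ gz m := by
    by_contra h
    push Not at h
    have hc := CfsgLib.Invol.zstar_of_weakly_closed F.T F.z_ord fun g hg => by
      obtain ⟨v, hv⟩ := F.exists_of_mem hg
      rw [← hv, h v (isConj_iff.2 ⟨g, hv.symm⟩)]
    have hcore : Cfsg.pPrimeCore 2 G = ⊥ := by
      haveI := CfsgLib.Coprime.pPrimeCore_characteristic (G := G) 2
      rcases Subgroup.Normal.eq_bot_or_eq_top (inferInstance : (Cfsg.pPrimeCore 2 G).Normal) with e | e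
      · exact e
      · exfalso
        have := CfsgLib.Coprime.pPrimeCore_not_dvd (G := G) Nat.prime_two
        rw [e, card_top] at this
        exact this (F.z_ord ▸ orderOf_dvd_natCard _)
    have : F.φ (gz m) ∈ center G := mem_center_iff.2 fun g => by
      have h1 := hc g
      rw [hcore, mem_bot] at h1
      exact (mul_inv_eq_iff_eq_mul.1 (mul_inv_eq_one.1 h1)).symm
    rw [F.center_bot, mem_bot] at this
    exact invol_ne_one F.z_ord this
  obtain ⟨p, q, hye, hpq⟩ := cls y hy hyne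
  obtain ⟨f, f1, f2, -, f4, f5⟩ := F.pull_z hy.sy
  have cz : gz m * y = y * gz m := (gz_central y).symm
  have ct : gt m * y = y * gt m := by simp [hye, mul_def, gt, Sd.mk.injEq, hn, add_comm]
  have ct' : gt' m * y = y * gt' m := by simp [hye, mul_def, gt', Sd.mk.injEq, hn, add_comm]
  obtain ⟨p', q', hz', hpq'⟩ := cls _ (f5 _ cz) fun e => hyne (f4 _ _ cz rfl (e.trans f1.symm)).symm
  have hti : gt m * gt m = (1 : Sd (2 * m)) ∧ gt' m * gt' m = (1 : Sd (2 * m)) ∧ gt m ≠ 1 ∧ gt' m ≠ 1 ∧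
      gt m * gt' m = gz m ∧ gt m ≠ gt' m := by
    simp [mul_def, gt, gt', gz, one_def, Sd.mk.injEq, m_add_m, m_ne_zero]
  have img : ∀ a, (a = gt m ∨ a = gt' m) → f a = gt m ∨ f a = gt' m := by
    intro a ha
    have hR : ¬ F.R (gz m) a := by rcases ha with rfl | rfl; exacts [ht, htt]
    have ca : a * y = y * a := by rcases ha with rfl | rfl; exacts [ct, ct']
    have hcomm : f a * f (gz m) = f (gz m) * f a := by
      rw [← f2 a _ ca cz, ← f2 _ a cz ca, gz_central]
    have haa : a * a = 1 ∧ a ≠ 1 := by rcases ha with rfl | rfl; exacts [⟨hti.1, hti.2.2.1⟩, ⟨hti.2.1, hti.2.2.2.1⟩]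
    rw [hz'] at hcomm
    rcases inv_cases (invol_of (f5 _ ca) haa.1) with (e | e | e | e) | ⟨c, d, e⟩ | ⟨c, e⟩ | ⟨c, e⟩
    · exact absurd e (ne_one F (f5 _ ca) haa.2)
    · exact absurd (e ▸ f5 _ ca).sy hR
    · exact Or.inl e
    · exact Or.inr e
    · exfalso
      rw [e] at hcomm
      simp [mul_def, Sd.mk.injEq] at hcomm
      have e1 := par_of_double hm (p := c - p') (Or.inl (by linear_combination hcomm.1))
      have e2 := par_of_double hm (p := d - q') (Or.inl (by linear_combination hcomm.2))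
      rw [map_sub, sub_eq_zero] at e1 e2
      refine hR (((f5 _ cz).tr ?_).tr (f5 _ ca).sy)
      rw [hz', e]
      exact R.of_cl (coset_conj e1.symm e2.symm)
    · rw [e] at hcomm
      simp [mul_def, Sd.mk.injEq] at hcomm
      refine absurd ?_ hpq'
      rw [show p' = q' + (c + c) by linear_combination -hcomm.1, map_add, map_add,
        CharTwo.add_self_eq_zero, add_zero]
    · rw [e] at hcomm
      simp [mul_def, Sd.mk.injEq] at hcomm
      refine absurd ?_ hpq'
      rw [show p' = -q' + (c + c) by linear_combination -hcomm.1, map_add, map_add, map_neg,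
        CharTwo.add_self_eq_zero, add_zero, ZMod.neg_eq_self_mod_two]
  have hne' : f (gt m) ≠ f (gt' m) := fun e => hti.2.2.2.2.2 (f4 _ _ ct ct' e)
  have hprod : f (gz m) = f (gt m) * f (gt' m) := by rw [← f2 _ _ ct ct', hti.2.2.2.2.1]
  rw [hz'] at hprod
  rcases img _ (Or.inl rfl) with a | a <;> rcases img _ (Or.inr rfl) with b | b <;> rw [a, b] at hprod hne'
  all_goals first | exact hne' rfl | simp [mul_def, gt, gt', Sd.mk.injEq] at hprod

/-- an inversion of the even classes fused to the centre pulls both exchanges along -/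
theorem of_w {e : ZMod (2 * m)} (hy : F.R (⟨e, e, 1, 0⟩ : Sd (2 * m)) (gz m)) :
    F.R (gz m) (gS m) ∧ F.R (gz m) (⟨e, e, 1, 1⟩ : Sd (2 * m)) := by
  have hn : -((m : ℕ) : ZMod (2 * m)) = (m : ℕ) := by linear_combination -(m_add_m (m := m))
  have hm2 : par ((m : ℕ) : ZMod (2 * m)) = 0 := par_m (dvd_trans (by norm_num) hm)
  set y : Sd (2 * m) := ⟨e, e, 1, 0⟩ with hye
  obtain ⟨f, f1, f2, -, f4, f5⟩ := F.pull_z hy
  set u : Sd (2 * m) := ⟨(m : ℕ), 0, 0, 1⟩ with hu
  obtain ⟨cu, huu⟩ := u_w (m := m) e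
  have cz : gz m * y = y * gz m := (gz_central y).symm
  have cS : gS m * y = y * gS m := by simp [hye, gS, mul_def, Sd.mk.injEq]
  obtain ⟨hfz, hsq⟩ := root_image (show y ≠ gz m by simp [hye, gz, Sd.mk.injEq]) f1 f2 f4 f5 cu huu
  have s0 : ∀ a, a * y = y * a → (f a).s = 0 := fun a ha => s_eq_zero_of_comm hfz (by
    rw [← f2 a _ ha cz, ← f2 _ a cz ha, gz_central])
  obtain ⟨a, b, x, hfu⟩ : ∃ a b x, f u = ⟨a, b, x, 0⟩ := ⟨_, _, _, by
    conv_lhs => rw [show f u = ⟨(f u).p, (f u).q, (f u).x, (f u).s⟩ from rfl, s0 u cu]⟩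
  obtain ⟨c, d, x', hfS⟩ : ∃ c d x', f (gS m) = ⟨c, d, x', 0⟩ := ⟨_, _, _, by
    conv_lhs => rw [show f (gS m) = ⟨(f (gS m)).p, (f (gS m)).q, (f (gS m)).x, (f (gS m)).s⟩ from rfl, s0 _ cS]⟩
  rw [hfu] at hsq
  obtain rfl : x = 0 := by
    rcases Sd.two_cases x with rfl | rfl
    · rfl
    · exfalso
      rcases hfz with e' | e' <;> rw [e'] at hsq <;>
        simp [mul_def, gt, gt', Sd.mk.injEq, one_add_one, m_ne_zero, m_ne_zero.symm] at hsq
  have hab : par a = 0 ∧ par b = 0 := by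
    rcases hfz with e' | e' <;> rw [e'] at hsq <;> simp [mul_def, gt, gt', Sd.mk.injEq] at hsq
    · exact ⟨par_of_double hm (Or.inr hsq.1), par_of_double hm (Or.inl hsq.2)⟩
    · exact ⟨par_of_double hm (Or.inl hsq.1), par_of_double hm (Or.inr hsq.2)⟩
  obtain rfl : x' = 1 := by
    rcases Sd.two_cases x' with rfl | rfl
    · exfalso
      have hc : f (u * gS m) = f (gS m * u) := by
        rw [f2 u _ cu cS, f2 _ u cS cu, hfu, hfS]
        simp [mul_def, Sd.mk.injEq, add_comm]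
      have c1 : u * gS m * y = y * (u * gS m) := by rw [mul_assoc, cS, ← mul_assoc, cu, mul_assoc]
      have c2 : gS m * u * y = y * (gS m * u) := by rw [mul_assoc, cu, ← mul_assoc, cS, mul_assoc]
      have := f4 _ _ c1 c2 hc
      simp [hu, gS, mul_def, Sd.mk.injEq, m_ne_zero] at this
    · rfl
  have hut : u * gS m = gt m := by simp [hu, gS, gt, mul_def, one_add_one]
  have ct : gt m * y = y * gt m := by rw [← hut, mul_assoc, cS, ← mul_assoc, cu, mul_assoc]
  have hS : F.R (gt m) (gS m) := by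
    refine ((f5 _ ct).tr ?_).tr (f5 _ cS).sy
    rw [← hut, f2 u _ cu cS, hfu, hfS]
    refine R.of_cl ?_
    simp only [mul_def, Sd.sw_zero, Sd.sg_zero, one_mul, zero_add, add_zero]
    exact coset_conj (by rw [map_add, hab.1, zero_add]) (by rw [map_add, hab.2, zero_add])
  have hzS : F.R (gz m) (gS m) := (F.z_t hm).tr hS
  refine ⟨hzS, hzS.tr ?_⟩
  have hw : (⟨e, e, 1, 1⟩ : Sd (2 * m)) = y * gS m := by simp [hye, gS, mul_def]
  have cw : (⟨e, e, 1, 1⟩ : Sd (2 * m)) * y = y * ⟨e, e, 1, 1⟩ := by rw [hw, mul_assoc, cS]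
  refine ((f5 _ cS).tr ?_).tr (f5 _ cw).sy
  rw [hw, f2 y _ rfl cS, f1, hfS]
  refine R.of_cl ?_
  simp only [gz, mul_def, Sd.sw_zero, Sd.sg_zero, one_mul, zero_add]
  exact coset_conj (by rw [map_add, hm2, zero_add]) (by rw [map_add, hm2, zero_add])

/-- an exchange fused to the centre pulls the even inversions to the other exchange -/
theorem of_E {x0 : ZMod 2} (hy : F.R (gE x0) (gz m)) :
    F.R (g00 m) (gE (x0 + 1)) ∧ F.R (g11 m) (gE (x0 + 1)) := by
  have hn : -((m : ℕ) : ZMod (2 * m)) = (m : ℕ) := by linear_combination -(m_add_m (m := m))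
  have hm2 : par ((m : ℕ) : ZMod (2 * m)) = 0 := par_m (dvd_trans (by norm_num) hm)
  haveI : Fact (1 < 2 * m) := ⟨by have := NeZero.ne m; omega⟩
  obtain ⟨f, f1, f2, -, f4, f5⟩ := F.pull_z hy
  obtain ⟨u, cu, huu⟩ := u_E hm x0
  set y : Sd (2 * m) := gE x0 with hye
  have cz : gz m * y = y * gz m := (gz_central y).symm
  obtain ⟨hfz, -⟩ := root_image (show y ≠ gz m by simp [hye, gE, gz, Sd.mk.injEq]) f1 f2 f4 f5 cu huu
  have s0 : ∀ a, a * y = y * a → (f a).s = 0 := fun a ha => s_eq_zero_of_comm hfz (by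
    rw [← f2 a _ ha cz, ← f2 _ a cz ha, gz_central])
  set D : Sd (2 * m) := ⟨1, Sd.sg x0, 0, 0⟩ with hD
  set W : Sd (2 * m) := ⟨0, 0, 1, 0⟩ with hW
  have cD : D * y = y * D := by
    rcases Sd.two_cases x0 with rfl | rfl <;> simp [hD, hye, gE, mul_def, Sd.mk.injEq]
  have cW : W * y = y * W := by simp [hW, hye, gE, mul_def, Sd.mk.injEq, add_comm]
  obtain ⟨a, b, x, hfD⟩ : ∃ a b x, f D = ⟨a, b, x, 0⟩ := ⟨_, _, _, by
    conv_lhs => rw [show f D = ⟨(f D).p, (f D).q, (f D).x, (f D).s⟩ from rfl, s0 _ cD]⟩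
  obtain ⟨c, d, x', hfW⟩ : ∃ c d x', f W = ⟨c, d, x', 0⟩ := ⟨_, _, _, by
    conv_lhs => rw [show f W = ⟨(f W).p, (f W).q, (f W).x, (f W).s⟩ from rfl, s0 _ cW]⟩
  have h2ne : (1 : ZMod (2 * m)) + 1 ≠ 0 := by
    intro h
    rcases Sd.double_zero h with e' | e'
    · exact one_ne_zero e'
    · have h' := congrArg par e'
      rw [map_one, hm2] at h'
      exact one_ne_zero h'
  obtain rfl : x = 0 := by
    rcases Sd.two_cases x with rfl | rfl
    · rfl
    · exfalso
      have h1 : f (D * D) = f 1 := by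
        have e1 := f2 1 1 (by rw [one_mul, mul_one]) (by rw [one_mul, mul_one])
        rw [one_mul] at e1
        rw [f2 D D cD cD, hfD, mul_left_cancel (a := f 1) (b := f 1) (c := 1) (by rw [← e1, mul_one])]
        simp [mul_def, one_def, one_add_one]
      have := f4 _ _ (by rw [mul_assoc, cD, ← mul_assoc, cD, mul_assoc]) (by rw [one_mul, mul_one]) h1
      simp [hD, mul_def, one_def, Sd.mk.injEq, h2ne] at this
  obtain rfl : x' = 1 := by
    rcases Sd.two_cases x' with rfl | rfl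
    · exfalso
      have hc : f (D * W) = f (W * D) := by
        rw [f2 D _ cD cW, f2 _ D cW cD, hfD, hfW]
        simp [mul_def, Sd.mk.injEq, add_comm]
      have := f4 _ _ (by rw [mul_assoc, cW, ← mul_assoc, cD, mul_assoc])
        (by rw [mul_assoc, cD, ← mul_assoc, cW, mul_assoc]) hc
      simp [hD, hW, mul_def, Sd.mk.injEq, eq_neg_iff_add_eq_zero, h2ne] at this
    · rfl
  have key : ∀ (v : Sd (2 * m)) (p q : ZMod (2 * m)) (cv : v * y = y * v), f v = ⟨p, q, 1, 0⟩ →
      F.R v (v * y) := by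
    intro v p q cv hfv
    refine ((f5 _ cv).tr ?_).tr (f5 _ (by rw [← mul_assoc, ← cv])).sy
    rw [f2 v y cv rfl, f1, hfv]
    refine R.of_cl ?_
    simp only [gz, mul_def, Sd.sw_zero, Sd.sg_one, neg_one_mul, hn, add_zero]
    exact coset_conj (by rw [map_add, hm2, add_zero]) (by rw [map_add, hm2, add_zero])
  refine ⟨?_, ?_⟩
  · have := key W c d cW hfW
    rwa [show W * y = gE (x0 + 1) by simp [hW, hye, gE, mul_def, Sd.mk.injEq, add_comm]] at this
  · have cDW : D * W * y = y * (D * W) := by rw [mul_assoc, cW, ← mul_assoc, cD, mul_assoc]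
    have := key (D * W) (a + c) (b + d) cDW (by rw [f2 D W cD cW, hfD, hfW]; simp [mul_def])
    refine ((R.of_cl ?_).tr this).tr (R.of_cl ?_)
    · rw [show D * W = ⟨1, Sd.sg x0, 1, 0⟩ by simp [hD, hW, mul_def]]
      refine coset_conj rfl ?_
      rcases Sd.two_cases x0 with rfl | rfl <;> simp
    · rcases Sd.two_cases x0 with rfl | rfl
      · rw [show D * W * y = ⟨1, 1, 1, 1⟩ by simp [hD, hW, hye, gE, mul_def, Sd.mk.injEq], zero_add]
        exact s'_conj 1
      · rw [show D * W * y = ⟨1, -1, 0, 1⟩ by simp [hD, hW, hye, gE, mul_def, Sd.mk.injEq, one_add_one],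
          Sd.one_add_one]
        exact s_conj 1

omit hm in
/-- the maps to the group of order two -/
def chi (a b : ZMod 2) (c : ZMod 2) : Sd (2 * m) →* Multiplicative (ZMod 2) :=
  MonoidHom.mk' (fun u => Multiplicative.ofAdd (a * u.x + b * u.s + c * (par u.p + par u.q))) fun u v => by
    rw [← ofAdd_add]
    congr 1
    rcases Sd.two_cases u.x with e | e <;> rcases Sd.two_cases u.s with e' | e' <;>
      simp [mul_def, e, e', ZMod.neg_eq_self_mod_two] <;> ring

omit hm in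
theorem chi_apply (a b c : ZMod 2) (u : Sd (2 * m)) :
    chi a b c u = 1 ↔ a * u.x + b * u.s + c * (par u.p + par u.q) = 0 := ofAdd_eq_one

/-- **one class of involutions** -/
theorem all_fused {u : Sd (2 * m)} (hu : u * u = 1) (hu1 : u ≠ 1) : F.R (gz m) u := by
  haveI : Fact (Nat.Prime 2) := ⟨Nat.prime_two⟩
  have hn : -((m : ℕ) : ZMod (2 * m)) = (m : ℕ) := by linear_combination -(m_add_m (m := m))
  have hm2 : par ((m : ℕ) : ZMod (2 * m)) = 0 := par_m (dvd_trans (by norm_num) hm)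
  have hzt := F.z_t hm
  have hzt' : F.R (gz m) (gt' m) := hzt.tr F.gt_conj
  -- classes of the kernels
  have red : ∀ v : Sd (2 * m), v * v = 1 → v ≠ 1 →
      F.R (gz m) v ∨ (v.x = 1 ∧ v.s = 0 ∧ par v.p ≠ par v.q) ∨
      (v.x = 1 ∧ v.s = 0 ∧ (F.R v (g00 m) ∨ F.R v (g11 m))) ∨
      (v.x = 0 ∧ v.s = 1 ∧ F.R v (gS m) ∧ par v.p = par v.q) ∨
      (v.x = 1 ∧ v.s = 1 ∧ F.R v (gS' m) ∧ par v.p = par v.q) := by
    intro v hv hv1
    rcases inv_cases hv with (e | e | e | e) | ⟨a, b, e⟩ | ⟨a, e⟩ | ⟨a, e⟩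
    · exact absurd e hv1
    · exact Or.inl (e ▸ R.refl _)
    · exact Or.inl (e ▸ hzt)
    · exact Or.inl (e ▸ hzt')
    · subst e
      by_cases hab : par a = par b
      · exact Or.inr (Or.inr (Or.inl ⟨rfl, rfl, w_class hab⟩))
      · exact Or.inr (Or.inl ⟨rfl, rfl, hab⟩)
    · subst e
      exact Or.inr (Or.inr (Or.inr (Or.inl ⟨rfl, rfl, R.of_cl (s_conj a), by rw [map_neg, ZMod.neg_eq_self_mod_two]⟩)))
    · subst e
      exact Or.inr (Or.inr (Or.inr (Or.inr ⟨rfl, rfl, R.of_cl (s'_conj a), rfl⟩)))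
  have trA : ∀ v : Sd (2 * m), v * v = 1 → v ≠ 1 → F.R (gz m) v ∨ F.R v (gS m) := by
    intro v hv hv1
    obtain ⟨w, hw, hR⟩ := F.fuse (chi 1 0 0) ⟨g00 m, by rw [ne_eq, chi_apply]; simp [g00]⟩ hv
    rw [chi_apply] at hw
    rcases red w (invol_of hR hv) (ne_one F hR hv1) with h | ⟨h, -⟩ | ⟨h, -⟩ | ⟨-, -, h, -⟩ | ⟨h, -⟩
    · exact Or.inl (h.tr hR.sy)
    all_goals first
      | exact Or.inr (hR.tr h)
      | (simp [h] at hw)
  have trB : ∀ v : Sd (2 * m), v * v = 1 → v ≠ 1 → F.R (gz m) v ∨ F.R v (gS' m) := by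
    intro v hv hv1
    obtain ⟨w, hw, hR⟩ := F.fuse (chi 1 1 0) ⟨g00 m, by rw [ne_eq, chi_apply]; simp [g00]⟩ hv
    rw [chi_apply] at hw
    rcases red w (invol_of hR hv) (ne_one F hR hv1) with h | ⟨h, h', -⟩ | ⟨h, h', -⟩ | ⟨h, h', -⟩ | ⟨-, -, h, -⟩
    · exact Or.inl (h.tr hR.sy)
    all_goals first
      | exact Or.inr (hR.tr h)
      | (simp [h, h'] at hw)
  have i00 : g00 m * g00 m = (1 : Sd (2 * m)) ∧ g00 m ≠ 1 := by
    simp [g00, mul_def, one_def, Sd.mk.injEq, one_add_one]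
  have i11 : g11 m * g11 m = (1 : Sd (2 * m)) ∧ g11 m ≠ 1 := by
    simp [g11, mul_def, one_def, Sd.mk.injEq, one_add_one]
  by_cases h0 : F.R (gz m) (g00 m)
  · have ⟨hS, hS'⟩ := F.of_w hm (e := 0) h0.sy
    have hS' : F.R (gz m) (gS' m) := hS'
    have h1 : F.R (gz m) (g11 m) := (trA _ i11.1 i11.2).elim id fun h => hS.tr h.sy
    obtain ⟨w, hw, hR⟩ := F.fuse (chi 0 0 1) ⟨g10 m, by rw [ne_eq, chi_apply]; simp [g10]⟩ hu
    rw [chi_apply] at hw
    refine R.tr ?_ hR.sy
    rcases red w (invol_of hR hu) (ne_one F hR hu1) with h | ⟨-, -, h⟩ | ⟨-, -, h | h⟩ | ⟨-, -, h, -⟩ | ⟨-, -, h, -⟩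
    · exact h
    · refine absurd ?_ h
      simpa [CharTwo.add_eq_zero] using hw
    exacts [h0.tr h.sy, h1.tr h.sy, hS.tr h.sy, hS'.tr h.sy]
  · exfalso
    have hA := (trA _ i00.1 i00.2).resolve_left h0
    have hB := (trB _ i00.1 i00.2).resolve_left h0
    have hS : ¬ F.R (gz m) (gS m) := fun h => h0 (h.tr hA.sy)
    have hS' : ¬ F.R (gz m) (gS' m) := fun h => h0 (h.tr hB.sy)
    have h1 : ¬ F.R (gz m) (g11 m) := fun h => hS (F.of_w hm (e := 1) h.sy).1
    have hA1 := (trA _ i11.1 i11.2).resolve_left h1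
    -- move `gS` with a Sylow subgroup of its centraliser
    set x := F.φ (gS m) with hx
    set C : Subgroup G := centralizer ({x} : Set G) with hC
    have hmem : ∀ a ∈ centralizer ({gS m} : Set (Sd (2 * m))), F.φ a ∈ C := fun a ha =>
      mem_centralizer_singleton_iff.2 (by
        rw [hx, ← map_mul, ← map_mul, mem_centralizer_singleton_iff.1 ha])
    let ψ : centralizer ({gS m} : Set (Sd (2 * m))) →* C := (F.φ.comp (Subgroup.subtype _)).codRestrict C
      fun a => hmem a.1 a.2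
    obtain ⟨P, hP⟩ := ((F.T.2.of_equiv F.e.symm).to_subgroup (centralizer ({gS m} : Set (Sd (2 * m))))
      |>.of_surjective ψ.rangeRestrict ψ.rangeRestrict_surjective).exists_le_sylow
    obtain ⟨k, hk⟩ := exists_conj_le_sylow (Q := (P : Subgroup C).map C.subtype) (P.2.map _) F.T
    have hk' : ∀ p : C, p ∈ (P : Subgroup C) → k * (p : G) * k⁻¹ ∈ (F.T : Subgroup G) :=
      fun p hp => hk _ ⟨p, hp, rfl⟩
    obtain ⟨v, hv⟩ := F.exists_of_mem (hk' ⟨x, hmem _ (mem_centralizer_singleton_iff.2 rfl)⟩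
      (hP ⟨⟨gS m, mem_centralizer_singleton_iff.2 rfl⟩, rfl⟩))
    have hv : F.φ v = k * x * k⁻¹ := hv
    have hSv : F.R (gS m) v := isConj_iff.2 ⟨k, hv.symm⟩
    have hiS : gS m * gS m = (1 : Sd (2 * m)) ∧ gS m ≠ 1 := by
      simp [gS, mul_def, one_def, Sd.mk.injEq, one_add_one]
    -- `v` is an exchange
    have hvs : v.s = 1 := by
      rcases red v (invol_of hSv hiS.1) (ne_one F hSv hiS.2) with h | ⟨hx1, hs0, -⟩ | ⟨hx1, hs0, -⟩ | ⟨-, h, -⟩ | ⟨-, h, -⟩
      · exact absurd (h.tr hSv.sy) hS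
      all_goals first
        | exact h
        | skip
      all_goals
        exfalso
        obtain ⟨f, -, f2, f3, f4, -⟩ := exists_pull x P k hk' hv (y := gS m) (IsConj.refl _)
        set D : Sd (2 * m) := ⟨1, 1, 0, 0⟩ with hD
        have cD : D * gS m = gS m * D := by simp [hD, gS, mul_def]
        have cDD : D * D * gS m = gS m * (D * D) := by rw [mul_assoc, cD, ← mul_assoc, cD, mul_assoc]
        obtain ⟨e1, e2⟩ := sq_diag (f D)
        have h4 : f (D * D) * f (D * D) = 1 := by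
          have hc := f3 _ cDD
          rw [f2 D D cD cD] at hc ⊢
          obtain ⟨a, b, xv, sv⟩ := v
          generalize hg : f D * f D = g at hc e1 e2
          obtain ⟨c, d, xg, sg⟩ := g
          simp only at e1 e2 hx1 hs0
          subst e1 e2 hx1 hs0
          simp [mul_def, Sd.mk.injEq] at hc
          simp [mul_def, one_def, Sd.mk.injEq]
          exact ⟨by linear_combination hc.1, by linear_combination hc.2⟩
        have h1' : f 1 = 1 := by
          have e := f2 1 1 (by rw [one_mul, mul_one]) (by rw [one_mul, mul_one])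
          rw [one_mul] at e
          exact mul_left_cancel (a := f 1) (by rw [← e, mul_one])
        have h5 := f4 (D * D * (D * D)) 1 (by rw [mul_assoc, cDD, ← mul_assoc, cDD, mul_assoc])
          (by rw [one_mul, mul_one]) (by rw [f2 _ _ cDD cDD, h4, h1'])
        simp [hD, mul_def, one_def, Sd.mk.injEq] at h5
        have h6 : ((4 : ℕ) : ZMod (2 * m)) = 0 := by push_cast; linear_combination h5
        rw [ZMod.natCast_eq_zero_iff] at h6
        have := Nat.le_of_dvd (by norm_num) h6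
        have := Nat.le_of_dvd (Nat.pos_of_ne_zero (NeZero.ne m)) hm
        omega
    obtain ⟨f, -, f2, f3, f4, f5⟩ := exists_pull x P k hk' hv (y := g00 m) hA
    have only : ∀ a, a * g00 m = g00 m * a → F.R (gz m) a → f a = gz m := by
      intro a ha hza
      have hRa : F.R (gz m) (f a) := hza.tr (f5 a ha)
      have hc := f3 a ha
      have hne := ne_one F hRa gz_ne
      rcases inv_cases (invol_of hRa gz_sq) with (e | e | e | e) | ⟨c, d, e⟩ | ⟨c, e⟩ | ⟨c, e⟩
      · exact absurd e hne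
      · exact e
      · rw [e] at hc
        exact absurd ((s_eq_zero_of_comm (Or.inl rfl) hc.symm).symm.trans hvs) zero_ne_one
      · rw [e] at hc
        exact absurd ((s_eq_zero_of_comm (Or.inr rfl) hc.symm).symm.trans hvs) zero_ne_one
      · exfalso
        rw [e] at hc hRa
        have hpar : par c = par d := by
          obtain ⟨p, q, x', s'⟩ := v
          simp only at hvs
          subst hvs
          rcases inv_cases (invol_of hSv hiS.1) with (e' | e' | e' | e') | ⟨_, _, e'⟩ | ⟨b, e'⟩ | ⟨b, e'⟩ <;>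
            simp [gz, gt, gt', one_def, Sd.mk.injEq] at e'
          · obtain ⟨rfl, rfl, rfl⟩ := e'
            simp [mul_def, Sd.mk.injEq] at hc
            have e := congrArg par hc.1
            simp only [map_add, map_neg, map_sub, ZMod.neg_eq_self_mod_two] at e
            revert e
            generalize par c = C; generalize par d = D; generalize par p = P
            intro e; linear_combination e
          · obtain ⟨rfl, rfl, rfl⟩ := e'
            simp [mul_def, Sd.mk.injEq] at hc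
            have e := congrArg par hc.1
            simp only [map_add, map_neg, map_sub, ZMod.neg_eq_self_mod_two] at e
            revert e
            generalize par c = C; generalize par d = D; generalize par q = Q
            intro e; linear_combination e
        rcases w_class (F := F) hpar with h | h
        exacts [h0 (hRa.tr h), h1 (hRa.tr h)]
      · exact absurd (hRa.tr (e ▸ R.of_cl (s_conj c))) hS
      · exact absurd (hRa.tr (e ▸ R.of_cl (s'_conj c))) hS'
    have ct : gt m * g00 m = g00 m * gt m := by simp [gt, g00, mul_def, hn]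
    have ct' : gt' m * g00 m = g00 m * gt' m := by simp [gt', g00, mul_def, hn]
    have := f4 _ _ ct ct' ((only _ ct hzt).trans (only _ ct' hzt').symm)
    simp [gt, gt', Sd.mk.injEq, m_ne_zero] at this

end Fr

end CfsgLib.Invol.GTwoOdd
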