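import Cfsg.Agent.Lib.Invol.GTwoOdd.Fusion
import Cfsg.Agent.Lib.Invol.GTwoOdd.Sylow
import Cfsg.Agent.Lib.Invol.MTwelveType.Classes

/-!
# Classes of involutions of simple groups with a Sylow two-subgroup of `G₂(q)`, `q` odd
-/

set_option autoImplicit false
set_option linter.unusedSectionVars false

namespace CfsgLib.Invol.GTwoOdd

open CfsgLib.Invol

universe u

/-- the model for `n = 4` is the Sylow subgroup of `M₁₂` -/
def toW12 : MTwelveType.W12 ≃* Sd 4 where
  toFun w := ⟨w.p, w.q, w.x, w.s⟩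
  invFun w := ⟨w.p, w.q, w.x, w.s⟩
  left_inv _ := rfl
  right_inv _ := rfl
  map_mul' _ _ := rfl

theorem small_classes {G : Type u} [Group G] [Finite G] [IsSimpleGroup G] (S : Sylow 2 G)
    (e : Sd 4 ≃* (S : Subgroup G)) :
    (∀ x y : G, orderOf x = 2 → orderOf y = 2 → IsConj x y) ∨
      (Nat.card ↥(S : Subgroup G) = 64 ∧ ∃ x y : G, orderOf x = 2 ∧ orderOf y = 2 ∧ ¬ IsConj x y ∧
        ∀ z : G, orderOf z = 2 → IsConj z x ∨ IsConj z y) := by
  let F : MTwelveType.Frame G := ⟨S, toW12.trans e⟩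
  have hzu := F.isConj_z_u
  have h2 : ∀ H : Subgroup G, H.index ≠ 2 := by
    intro H h
    rcases (Subgroup.normal_of_index_eq_two h).eq_bot_or_eq_top with e' | e'
    · rw [e', Subgroup.index_bot] at h
      have hd := Subgroup.card_subgroup_dvd_card (S : Subgroup G)
      rw [h, F.card_T] at hd
      exact absurd (Nat.le_of_dvd two_pos hd) (by norm_num)
    · rw [e', Subgroup.index_top] at h; omega
  have hall : ∀ v : G, orderOf v = 2 → IsConj v F.z ∨ IsConj v (F.hom MTwelveType.W12.gas) := by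
    intro v hv
    obtain ⟨r, hr, hvr⟩ := F.rel_reps hzu hv
    have hri : MTwelveType.W12.Inv2 r := by
      obtain ⟨g, hg⟩ := isConj_iff.1 hvr
      exact F.hom_invol.1 (hg ▸ invol_conj hv g)
    rcases F.fuse_one h2 hzu hri with h | h
    · exact Or.inl (hvr.trans h.symm)
    · exact Or.inr (hvr.trans h.symm)
  by_cases hc : IsConj F.z (F.hom MTwelveType.W12.gas)
  · refine Or.inl fun x y hx hy => ?_
    have hz : ∀ v : G, orderOf v = 2 → IsConj v F.z := fun v hv =>
      (hall v hv).elim id fun h => h.trans hc.symm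
    exact (hz x hx).trans (hz y hy).symm
  · exact Or.inr ⟨F.card_T, F.z, F.hom MTwelveType.W12.gas, F.z_ord,
      F.hom_invol.2 (by decide +kernel), hc, hall⟩

theorem classes {G : Type u} [Group G] [Finite G] [IsSimpleGroup G] {K : Type*} [Field K] [Fintype K]
    (hK : Odd (Fintype.card K)) (S : Sylow 2 G) (P : Sylow 2 ↥(Cfsg.Lie.chevG2.group K))
    (hS : Nonempty (↥(S : Subgroup G) ≃* ↥(P : Subgroup ↥(Cfsg.Lie.chevG2.group K)))) :
    (∀ x y : G, orderOf x = 2 → orderOf y = 2 → IsConj x y) ∨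
      (Nat.card ↥(S : Subgroup G) = 64 ∧ ∃ x y : G, orderOf x = 2 ∧ orderOf y = 2 ∧ ¬ IsConj x y ∧
        ∀ z : G, orderOf z = 2 → IsConj z x ∨ IsConj z y) := by
  haveI : Fact (Nat.Prime 2) := ⟨Nat.prime_two⟩
  obtain ⟨k, hk, ⟨e⟩⟩ := exists_sylow_iso hK P
  obtain ⟨f⟩ := hS
  by_cases hk1 : k = 1
  · subst hk1
    exact small_classes S (e.trans f.symm)
  · left
    haveI : NeZero (2 ^ k) := ⟨pow_ne_zero _ two_ne_zero⟩
    let F : Fr G (2 ^ k) := ⟨S, e.trans f.symm⟩
    have hm : 4 ∣ 2 ^ k := pow_dvd_pow 2 (show 2 ≤ k by omega)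
    have hz : ∀ v : G, orderOf v = 2 → IsConj (F.φ (Sd.gz (2 ^ k))) v := by
      intro v hv
      obtain ⟨g, hg⟩ := exists_conj_le_sylow (Q := Subgroup.zpowers v)
        (IsPGroup.of_card (n := 1) (by rw [Nat.card_zpowers, hv, pow_one])) S
      obtain ⟨w, hw⟩ := F.exists_of_mem (hg v (Subgroup.mem_zpowers v))
      obtain ⟨h1, h2⟩ := invol_iff.1 (hw ▸ invol_conj hv g)
      refine (F.all_fused hm (u := w) (F.φ_inj ?_) fun e' => h2 (by rw [e', map_one])).trans
        (isConj_iff.2 ⟨g, hw.symm⟩).symm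
      rw [map_mul, map_one, h1]
    exact fun x y hx hy => (hz x hx).symm.trans (hz y hy)

end CfsgLib.Invol.GTwoOdd
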