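import Mathlib.Algebra.Field.ZMod
import Mathlib.Data.Fintype.Basic
import Mathlib.Tactic.DeriveFintype
import Mathlib.Tactic.Ring
import Mathlib.Algebra.Group.Subgroup.Defs
import Mathlib.GroupTheory.OrderOfElement
import Mathlib.Tactic.Group
import Mathlib.Tactic.LinearCombination
import Mathlib.GroupTheory.Subgroup.Center

/-!
# The Sylow two-subgroup of `G₂(q)`, `q` odd

`(ℤ/n)²` extended by the inversion and by the exchange of the two coordinates, and homomorphisms out of it.
-/

set_option autoImplicit false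

namespace CfsgLib.Invol.GTwoOdd

/-- the coordinates -/
structure Sd (n : ℕ) where
  p : ZMod n
  q : ZMod n
  x : ZMod 2
  s : ZMod 2
deriving DecidableEq

namespace Sd

variable {n : ℕ}

/-- the coordinates as a product -/
def toProd : Sd n ≃ ZMod n × ZMod n × ZMod 2 × ZMod 2 where
  toFun w := (w.p, w.q, w.x, w.s)
  invFun t := ⟨t.1, t.2.1, t.2.2.1, t.2.2.2⟩
  left_inv _ := rfl
  right_inv _ := rfl

instance [NeZero n] : Fintype (Sd n) := Fintype.ofEquiv _ toProd.symm

theorem card_Sd [NeZero n] : Nat.card (Sd n) = 4 * n ^ 2 := by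
  rw [Nat.card_congr toProd]; simp [Nat.card_prod]; ring

/-- the sign of the inversion part -/
def sg (x : ZMod 2) : ZMod n := if x = 0 then 1 else -1

/-- the first coordinate after the exchange part -/
def sw (s : ZMod 2) (a b : ZMod n) : ZMod n := if s = 0 then a else b

theorem two_cases : ∀ x : ZMod 2, x = 0 ∨ x = 1 := by decide

@[simp] theorem sg_zero : sg (n := n) 0 = 1 := rfl
@[simp] theorem sg_one : sg (n := n) 1 = -1 := rfl
@[simp] theorem sw_zero (a b : ZMod n) : sw 0 a b = a := rfl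
@[simp] theorem sw_one (a b : ZMod n) : sw 1 a b = b := rfl
theorem one_add_one : (1 : ZMod 2) + 1 = 0 := by decide

instance : Mul (Sd n) := ⟨fun u w => ⟨u.p + sg u.x * sw u.s w.p w.q, u.q + sg u.x * sw u.s w.q w.p,
  u.x + w.x, u.s + w.s⟩⟩
instance : One (Sd n) := ⟨⟨0, 0, 0, 0⟩⟩
instance : Inv (Sd n) := ⟨fun u => ⟨-(sg u.x * sw u.s u.p u.q), -(sg u.x * sw u.s u.q u.p), u.x, u.s⟩⟩

theorem mul_def (u w : Sd n) : u * w = ⟨u.p + sg u.x * sw u.s w.p w.q, u.q + sg u.x * sw u.s w.q w.p,
    u.x + w.x, u.s + w.s⟩ := rfl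

theorem one_def : (1 : Sd n) = ⟨0, 0, 0, 0⟩ := rfl

theorem inv_def (u : Sd n) :
    u⁻¹ = ⟨-(sg u.x * sw u.s u.p u.q), -(sg u.x * sw u.s u.q u.p), u.x, u.s⟩ := rfl

theorem mul_assoc' (u v w : Sd n) : u * v * w = u * (v * w) := by
  rcases two_cases u.x with a | a <;> rcases two_cases u.s with b | b <;>
    rcases two_cases v.x with c | c <;> rcases two_cases v.s with d | d <;>
    simp [mul_def, a, b, c, d, one_add_one, ← _root_.add_assoc, Sd.mk.injEq] <;>
    and_intros <;> ring

theorem inv_mul' (u : Sd n) : u⁻¹ * u = 1 := by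
  rcases two_cases u.x with a | a <;> rcases two_cases u.s with b | b <;>
    simp [mul_def, inv_def, one_def, a, b, one_add_one]

instance : Group (Sd n) where
  mul_assoc := mul_assoc'
  one_mul u := by simp [mul_def, one_def]
  mul_one u := by
    obtain ⟨a, b, c, d⟩ := u
    rcases two_cases d with rfl | rfl <;> simp [mul_def, one_def]
  inv_mul_cancel := inv_mul'

/-- the central involution for `n = 2 * m` -/
def gz (m : ℕ) : Sd (2 * m) := ⟨m, m, 0, 0⟩

theorem eq_of_central {m : ℕ} (hm : 2 ≤ m) {u : Sd (2 * m)} (hu : u ∈ Subgroup.center (Sd (2 * m))) :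
    u = 1 ∨ u = gz m := by
  obtain ⟨p, q, x, s⟩ := u
  haveI : Fact (1 < 2 * m) := ⟨by omega⟩
  have hneg : (-1 : ZMod (2 * m)) ≠ 1 := by
    intro h
    have h2 : ((2 : ℕ) : ZMod (2 * m)) = 0 := by
      rw [Nat.cast_ofNat]
      linear_combination -h
    rw [ZMod.natCast_eq_zero_iff] at h2
    have := Nat.le_of_dvd two_pos h2
    omega
  have h1 := Subgroup.mem_center_iff.1 hu ⟨1, 0, 0, 0⟩
  rcases two_cases s with rfl | rfl
  swap
  · rcases two_cases x with rfl | rfl <;>
      simp [mul_def, Sd.mk.injEq] at h1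
  rcases two_cases x with rfl | rfl
  swap
  · simp [mul_def, Sd.mk.injEq] at h1
    exact absurd (show (-1 : ZMod (2 * m)) = 1 by linear_combination -h1) hneg
  have h2 := Subgroup.mem_center_iff.1 hu ⟨0, 0, 0, 1⟩
  have h3 := Subgroup.mem_center_iff.1 hu ⟨0, 0, 1, 0⟩
  simp [mul_def, Sd.mk.injEq] at h2 h3
  have hd : ((2 * p.val : ℕ) : ZMod (2 * m)) = 0 := by
    push_cast
    rw [ZMod.natCast_zmod_val]
    linear_combination -h3.1
  rw [ZMod.natCast_eq_zero_iff] at hd
  have hlt := ZMod.val_lt p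
  have hp : p.val = 0 ∨ p.val = m := by
    obtain ⟨t, ht⟩ := hd
    have ht1 : t = 0 ∨ t = 1 := by
      rcases Nat.lt_or_ge t 2 with h | h
      · omega
      · exfalso
        have := Nat.mul_le_mul_left (2 * m) h
        omega
    rcases ht1 with rfl | rfl <;> omega
  rcases hp with e | e
  · left
    have : p = 0 := by rw [← ZMod.natCast_zmod_val p, e, Nat.cast_zero]
    subst this
    simp [one_def, h2.1]
  · right
    have : p = (m : ZMod (2 * m)) := by rw [← ZMod.natCast_zmod_val p, e]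
    subst this
    simp [gz, h2.1]

end Sd

/-! ### homomorphisms -/

section Hom

set_option linter.unusedSectionVars false

variable {n : ℕ} [NeZero n] {H : Type*} [Group H]

/-- four elements with the relations of the model -/
structure Quad (n : ℕ) (e1 e2 w s : H) : Prop where
  comm : Commute e1 e2
  pow1 : e1 ^ n = 1
  w2 : w * w = 1
  s2 : s * s = 1
  ws : Commute w s
  w1 : w * e1 * w⁻¹ = e1⁻¹
  w2' : w * e2 * w⁻¹ = e2⁻¹
  s1 : s * e1 * s⁻¹ = e2
  s2' : s * e2 * s⁻¹ = e1

/-- the power with exponent in `ZMod n` -/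
def zp (g : H) (a : ZMod n) : H := g ^ a.val

theorem zp_add {g : H} (h : g ^ n = 1) (a b : ZMod n) : zp g (a + b) = zp g a * zp g b := by
  rw [zp, zp, zp, ZMod.val_add, ← pow_add, ← pow_eq_pow_mod _ h]

theorem zp_zero {g : H} : zp g (0 : ZMod n) = 1 := by simp [zp]

theorem zp_neg {g : H} (h : g ^ n = 1) (a : ZMod n) : zp g (-a) = (zp g a)⁻¹ :=
  eq_inv_of_mul_eq_one_left (by rw [← zp_add h, neg_add_cancel, zp_zero])

theorem zp_map {H' : Type*} [Group H'] (f : H →* H') (g : H) (a : ZMod n) : f (zp g a) = zp (f g) a :=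
  map_pow f g _

variable {e1 e2 w s : H}

theorem Quad.pow2 (Q : Quad n e1 e2 w s) : e2 ^ n = 1 := by
  rw [← Q.s1, conj_pow, Q.pow1, mul_one, mul_inv_cancel]

/-- the diagonal part -/
def part (e1 e2 : H) (a b : ZMod n) : H := zp e1 a * zp e2 b

/-- the factor of the complement -/
def tail (w s : H) (x y : ZMod 2) : H := w ^ x.val * s ^ y.val

theorem Quad.part_mul (Q : Quad n e1 e2 w s) (a b c d : ZMod n) :
    part e1 e2 a b * part e1 e2 c d = part e1 e2 (a + c) (b + d) := by
  have h : Commute (zp e2 b) (zp e1 c) := (Q.comm.pow_pow _ _).symm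
  rw [part, part, part, zp_add Q.pow1, zp_add Q.pow2, mul_assoc, ← mul_assoc (zp e2 b), h.eq]
  simp only [mul_assoc]

theorem Quad.tail_mul (Q : Quad n e1 e2 w s) (x y x' y' : ZMod 2) :
    tail w s x y * tail w s x' y' = tail w s (x + x') (y + y') := by
  have hw : w ^ (x + x').val = w ^ x.val * w ^ x'.val := by
    rcases Sd.two_cases x with rfl | rfl <;> rcases Sd.two_cases x' with rfl | rfl <;>
      simp [Sd.one_add_one, ZMod.val_one, Q.w2]
  have hs : s ^ (y + y').val = s ^ y.val * s ^ y'.val := by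
    rcases Sd.two_cases y with rfl | rfl <;> rcases Sd.two_cases y' with rfl | rfl <;>
      simp [Sd.one_add_one, ZMod.val_one, Q.s2]
  rw [tail, tail, tail, hw, hs, mul_assoc, ← mul_assoc (s ^ y.val), ((Q.ws.symm).pow_pow _ _).eq]
  simp only [mul_assoc]

theorem Quad.tail_part (Q : Quad n e1 e2 w s) (x y : ZMod 2) (a b : ZMod n) :
    tail w s x y * part e1 e2 a b =
      part e1 e2 (Sd.sg x * Sd.sw y a b) (Sd.sg x * Sd.sw y b a) * tail w s x y := by
  have key : ∀ g : H, MulAut.conj g (part e1 e2 a b) = zp (g * e1 * g⁻¹) a * zp (g * e2 * g⁻¹) b :=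
    fun g => by
      show (MulAut.conj g).toMonoidHom _ = _
      rw [part, map_mul, zp_map, zp_map]; rfl
  have hinv : ∀ (g : H) (c : ZMod n), zp g⁻¹ c = (zp g c)⁻¹ := fun g c => inv_pow g _
  rw [← mul_inv_eq_iff_eq_mul, ← MulAut.conj_apply, key]
  rcases Sd.two_cases x with rfl | rfl <;> rcases Sd.two_cases y with rfl | rfl
  · simp [tail, part]
  · simp only [tail, ZMod.val_zero, pow_zero, one_mul, ZMod.val_one, pow_one, Q.s1, Q.s2', part,
      Sd.sg_zero, Sd.sw_one]
    exact ((Q.comm.pow_pow _ _).symm).eq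
  · simp only [tail, ZMod.val_zero, pow_zero, mul_one, ZMod.val_one, pow_one, Q.w1, Q.w2', part,
      Sd.sg_one, Sd.sw_zero, neg_mul, one_mul, hinv, zp_neg Q.pow1, zp_neg Q.pow2]
  · have h1 : w * s * e1 * (w * s)⁻¹ = e2⁻¹ := by rw [← Q.w2', ← Q.s1]; group
    have h2 : w * s * e2 * (w * s)⁻¹ = e1⁻¹ := by rw [← Q.w1, ← Q.s2']; group
    simp only [tail, ZMod.val_one, pow_one, h1, h2, part, Sd.sg_one, Sd.sw_one, neg_mul, one_mul,
      hinv, zp_neg Q.pow1, zp_neg Q.pow2]
    exact ((Q.comm.pow_pow _ _).symm.inv_inv).eq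

/-- the homomorphism given by four such elements -/
def Quad.hom (Q : Quad n e1 e2 w s) : Sd n →* H :=
  MonoidHom.mk' (fun u => part e1 e2 u.p u.q * tail w s u.x u.s) fun u v => by
    simp only [Sd.mul_def]
    rw [← Q.part_mul, ← Q.tail_mul, mul_assoc (part e1 e2 u.p u.q), ← mul_assoc (part e1 e2 _ _)
      (tail w s u.x u.s), ← Q.tail_part]
    simp only [mul_assoc]

theorem Quad.hom_apply (Q : Quad n e1 e2 w s) (u : Sd n) :
    Q.hom u = part e1 e2 u.p u.q * tail w s u.x u.s := rfl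

end Hom

end CfsgLib.Invol.GTwoOdd
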